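import Cfsg.Agent.Omega.NO3S.SOne.NTBase
import Cfsg.Agent.Omega.SQ1.FFKNat
import Cfsg.Agent.Omega.SQ1.VOf
import Cfsg.Agent.Omega.NO3b.EZeroPair
import Cfsg.Agent.Omega.FF.GlobEnd

/-!
# `par` over `T`: the ambient facts over a 2-group `T` which is Sylow in `P` only

* `syl_of` : `Syl T P`; `minH_of'` : `MinH P T`;
* `ambD_of_minPar` : `AmbD T P (zl T P) (cv T P)` for a natural module (split or not);
* `cT_zl` : `C_T(⟨Ω₁(Z(T))^P⟩) ≤ O₂(P)`;
* `conclM_of` : the FF theorem.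
-/

set_option autoImplicit false
set_option linter.unusedSectionVars false
set_option linter.unusedVariables false

namespace Cfsg.Agent.Omega.NOThreeL.RWide.ParA

open Subgroup Cfsg Cfsg.Agent.ZN Cfsg.Agent.ZN.ChoiceBase Cfsg.Agent.Omega.MinPar
open Cfsg.Agent.ZN.ChoiceSit (Syl)
open Cfsg.Agent.MinSimple.MinParabolic (IsMinPar)
open Cfsg.Agent.Omega.FFThm (ElemM OffM NoOverM ConclM NatKM ActsSL relIndex_le_iff)
open Cfsg.Agent.Omega.FrameFF (cv)
open Cfsg.Agent.Omega.NatPair (ap ap_mul ap_one ap_inv_ap ap_zero' ap_one' ext2 exists_ap)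
open Cfsg.Agent.Omega.NOThreeL.NF.NatR (Const ap_up ap_lo)
open Cfsg.Agent.Omega.NO3S.SOne.NatD
open Cfsg.Agent.Lib.SL2Mat
open scoped commutatorElement Pointwise

universe u

variable {G : Type u} [Group G] [Finite G] {T P : Subgroup G}

/-- `T` is a Sylow 2-subgroup of `P`. -/
theorem syl_of (hT : IsPGroup 2 T) (hP : IsMinPar T P) (syl : ¬ 2 ∣ T.relIndex P) : Syl T P := by
  have : Fact (Nat.Prime 2) := ⟨Nat.prime_two⟩
  refine ⟨hP.le, hT, fun Q hQX hQ hBQ => le_antisymm ?_ hBQ⟩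
  have h3 : T.relIndex Q ∣ T.relIndex P := by
    rw [← relIndex_mul_relIndex T Q P hBQ hQX]
    exact dvd_mul_right _ _
  obtain ⟨n, hn⟩ := (IsPGroup.index hQ (T.subgroupOf Q))
  rw [← relIndex] at hn
  rcases Nat.eq_zero_or_pos n with e | hpos
  · rw [e, pow_zero] at hn
    exact relIndex_eq_one.1 hn
  · exact absurd ((dvd_pow_self 2 hpos.ne').trans (hn ▸ h3)) syl

/-- `MinH P T` -/
theorem minH_of' (hT : IsPGroup 2 T) (hP : IsMinPar T P) (syl : ¬ 2 ∣ T.relIndex P)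
    (hc : P ⊓ centralizer (o2 P : Set G) ≤ o2 P) : SQ1.FFOne.MinH P T :=
  SQ1.FFOne.minH_of (syl_of hT hP syl) hP hc

/-- **the ambient facts** (`AmbD.of` with `T` not Sylow in `G`) -/
theorem ambD_of_minPar (hT : IsPGroup 2 T) (hP : IsMinPar T P) (syl : ¬ 2 ∣ T.relIndex P)
    (hc : P ⊓ centralizer (o2 P : Set G) ≤ o2 P) {k : ℕ} {F : Type} [Field F]
    (M : NatKM F T P (zl T P) (cv T P) k) : AmbD T P (zl T P) (cv T P) := by
  classical
  have hfact : Fact (Nat.Prime 2) := ⟨Nat.prime_two⟩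
  have hm := minH_of' hT hP syl hc
  have hPV : P ≤ normalizer (zl T P : Set G) := le_normalizer_zl _ _
  have hPD : P ≤ normalizer (cv T P : Set G) := P_cv _ _
  have hDV : cv T P ≤ zl T P := inf_le_left
  have hsq : ∀ x ∈ zl T P, x * x = 1 := fun x hx => by rw [← pow_two]; exact SQ1.VOf.MinH.sq hm x hx
  refine ⟨hP.le, hPV, hPD, hDV, SQ1.VOf.MinH.comm hm, hsq, fun g hg hg1 hg2 => ?_⟩
  set V := zl T P with hV
  set D := cv T P with hD
  set K := K0 P V D hPV with hK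
  have hgK : g ∈ K := ⟨hg, hg1, hg2⟩
  have hKP : K ≤ P := fun x hx => hx.1
  have hKn : P ≤ normalizer (K : Set G) := le_normalizer_K0 hPV hPD
  by_cases hk : k = 0
  · -- no summand: `V = D`
    rw [mem_centralizer_iff]
    intro v hv
    refine (hg2 v ((M.ker v hv).1 ?_)).symm
    funext i
    exact absurd i.2 (by omega)
  have hi0 : 0 < k := Nat.pos_of_ne_zero hk
  have i : Fin k := ⟨0, hi0⟩
  rcases hP.sup_eq_or_inf_le (p := 2) hT syl hKP hKn with h1 | h1
  · exfalso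
    -- an element of `P` acting as `lo 1` on the summand `i`
    obtain ⟨p, hp, hac, -⟩ := M.lift (Pi.mulSingle i (lo 1))
    have hp' : p ∈ ((K ⊔ T : Subgroup G) : Set G) := by
      rw [h1]; exact hp
    rw [sup_comm, coe_mul_of_left_le_normalizer_right _ _ (hP.le.trans hKn)] at hp'
    obtain ⟨s, hs, x, hx, rfl⟩ := hp'
    obtain ⟨σ, hσ⟩ := M.line s hs
    obtain ⟨v, hv, hvi, hvj⟩ := exists_pt M i ![1, 0]
    have hxv : M.e (x * v * x⁻¹) = M.e v :=
      (e_eq_iff (M := M) ((mem_normalizer_iff.1 (hPV hx.1) v).1 hv) hv).2 (hx.2.1 v hv)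
    have hxvV : x * v * x⁻¹ ∈ V := (mem_normalizer_iff.1 (hPV hx.1) v).1 hv
    have h2 := hac v hv i
    have e1 : s * x * v * (s * x)⁻¹ = s * (x * v * x⁻¹) * s⁻¹ := by group
    dsimp only at h2
    rw [e1, Pi.mulSingle_eq_same, hvi, ap_lo] at h2
    have h3 : M.e (s * (x * v * x⁻¹) * s⁻¹) i 1 = 0 := by
      have h4 := (hσ _ hxvV (σ.symm i)).2 (by
        rw [hxv]
        by_cases h5 : σ.symm i = i
        · rw [h5, hvi]; rfl
        · rw [hvj _ h5]; rfl)
      rwa [Equiv.apply_symm_apply] at h4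
    rw [h2] at h3
    simp at h3
  · -- `T ∩ K ≤ O₂(P) ≤ C(V)`, `x² ∈ C(V)` for `x ∈ K`
    have hsqK : ∀ x ∈ K, x * x ∈ centralizer (V : Set G) := by
      rintro x ⟨hx, hx1, hx2⟩
      rw [mem_centralizer_iff]
      intro v hv
      set d := x * v * x⁻¹ * v⁻¹ with hd
      have hdD : d ∈ D := hx1 v hv
      have h2 : x * v * x⁻¹ = d * v := by rw [hd]; group
      have h3 : x * d * x⁻¹ = d := by rw [hx2 d hdD, mul_inv_cancel_right]
      have h4 : x * x * v * (x * x)⁻¹ = v := by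
        calc x * x * v * (x * x)⁻¹ = x * (x * v * x⁻¹) * x⁻¹ := by group
          _ = x * (d * v) * x⁻¹ := by rw [h2]
          _ = x * d * x⁻¹ * (x * v * x⁻¹) := by group
          _ = v := by rw [h3, h2, ← mul_assoc, hsq d (hDV hdD), one_mul]
      exact (mul_inv_eq_iff_eq_mul.1 h4).symm
    have hcP : ∀ p ∈ P, ∀ x, x ∈ centralizer (V : Set G) → p * x * p⁻¹ ∈ centralizer (V : Set G) := by
      intro p hp x hx
      rw [mem_centralizer_iff]
      intro v hv
      have h2 : p⁻¹ * v * p⁻¹⁻¹ ∈ V := (mem_normalizer_iff.1 (hPV (inv_mem hp)) v).1 hv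
      have h3 := mem_centralizer_iff.1 hx _ h2
      calc v * (p * x * p⁻¹) = p * (p⁻¹ * v * p⁻¹⁻¹ * x) * p⁻¹ := by group
        _ = p * (x * (p⁻¹ * v * p⁻¹⁻¹)) * p⁻¹ := by rw [h3]
        _ = p * x * p⁻¹ * v := by group
    have h2core : ∀ x ∈ K, IsPGroup 2 (zpowers x) → x ∈ centralizer (V : Set G) := by
      intro x hx hx2
      have hxP : zpowers x ≤ P := by rw [zpowers_le]; exact hKP hx
      obtain ⟨p, hp, hpx⟩ : ∃ p ∈ P, p * x * p⁻¹ ∈ T := by
        obtain ⟨Q, hQ⟩ := (hx2.comap_of_injective P.subtype P.subtype_injective).exists_le_sylow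
        have hSP' : IsPGroup 2 (T.subgroupOf P) := hT.comap_of_injective _ P.subtype_injective
        obtain ⟨g, hg⟩ := MulAction.exists_smul_eq P Q (hSP'.toSylow syl)
        refine ⟨g, g.2, ?_⟩
        have h3 : (⟨x, hKP hx⟩ : P) ∈ (Q : Subgroup P) := hQ (by
          rw [mem_comap]; exact mem_zpowers x)
        have h4 : g * ⟨x, hKP hx⟩ * g⁻¹ ∈ ((hSP'.toSylow syl : Sylow 2 P) : Subgroup P) := by
          rw [← hg, Sylow.coe_subgroup_smul]
          exact ⟨⟨x, hKP hx⟩, h3, rfl⟩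
        exact mem_subgroupOf.1 h4
      have h3 : p * x * p⁻¹ ∈ centralizer (V : Set G) := by
        have h4 : p * x * p⁻¹ ∈ o2 P := h1 ⟨hpx, (mem_normalizer_iff.1 (hKn hp) x).1 hx⟩
        exact mem_centralizer_iff.2 fun v hv => (SQ1.VOf.MinH.o2_cent hm _ h4 v hv).symm
      have h4 := hcP p⁻¹ (inv_mem hp) _ h3
      have e : p⁻¹ * (p * x * p⁻¹) * p⁻¹⁻¹ = x := by group
      rwa [e] at h4
    -- an odd power of `g` is a 2-element
    obtain ⟨n, hn, a, ha⟩ := NOThreeL.Low.exists_odd_pow g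
    have h5 := h2core (g ^ n) (pow_mem hgK n) (NOThreeL.Low.isPGroup_zpowers ha)
    obtain ⟨t, rfl⟩ := hn
    have h6 : (g * g) ^ t ∈ centralizer (V : Set G) := pow_mem (hsqK g hgK) t
    have e : g = ((g * g) ^ t)⁻¹ * g ^ (2 * t + 1) := by
      rw [← pow_two, ← pow_mul, pow_succ]; group
    rw [e]
    exact mul_mem (inv_mem h6) h5

/-- `C_T(V) ≤ O₂(P)` -/
theorem cT_zl (hT : IsPGroup 2 T) (hP : IsMinPar T P) (syl : ¬ 2 ∣ T.relIndex P)
    (mv : ¬ P ≤ centralizer (zc T : Set G)) : T ⊓ centralizer (zl T P : Set G) ≤ o2 P := by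
  have hfact : Fact (Nat.Prime 2) := ⟨Nat.prime_two⟩
  have hPV : P ≤ normalizer (zl T P : Set G) := le_normalizer_zl _ _
  have hKn : P ≤ normalizer ((P ⊓ centralizer (zl T P : Set G) : Subgroup G) : Set G) :=
    NO3b.EZero.le_normalizer_inf_cent hPV
  rcases hP.sup_eq_or_inf_le (p := 2) hT syl (N := P ⊓ centralizer (zl T P : Set G)) inf_le_left hKn with h1 | h1
  · exfalso
    apply mv
    rw [← h1]
    refine sup_le (inf_le_right.trans (centralizer_le SQ1.VOf.zc_le_zl)) fun t ht => ?_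
    exact mem_centralizer_iff.2 fun z hz => ((ChoiceBase.mem_zc.1 hz).2.2 t ht).symm
  · exact (le_inf inf_le_left (le_inf (inf_le_left.trans hP.le) inf_le_right)).trans h1

/-- **the FF theorem** over `T` -/
theorem conclM_of' (hT : IsPGroup 2 T) (hP : IsMinPar T P) (syl : ¬ 2 ∣ T.relIndex P)
    (hc : P ⊓ centralizer (o2 P : Set G) ≤ o2 P) {A : Subgroup G} (hA : A ≤ T) (off : OffM (zl T P) A) :
    NoOverM (zl T P) P ∧ ConclM T P :=
  FF.Glob.ffthmM G T P (syl_of hT hP syl) hP hc ⟨A, hA.trans hP.le, off⟩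

/-- **the FF theorem** over `T` -/
theorem conclM_of (hFF : FFThm.Stmt.{u}) (hT : IsPGroup 2 T) (hP : IsMinPar T P) (syl : ¬ 2 ∣ T.relIndex P)
    (hc : P ⊓ centralizer (o2 P : Set G) ≤ o2 P) {A : Subgroup G} (hA : A ≤ T) (off : OffM (zl T P) A) :
    NoOverM (zl T P) P ∧ ConclM T P := conclM_of' hT hP syl hc hA off

end Cfsg.Agent.Omega.NOThreeL.RWide.ParA
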