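import Cfsg.Agent.Omega.NOThreeL.RWide.ParT.Alpha

/-!
# `parT`, step [B] (helper506, bb OMEGA #27090 (B); literal of helper971, #27366)

`Yh = W × Cc` (`P`-invariant, `Cc` centralised by `K`, `P ≤ K T`), `V` and `W` generated by conjugates of every `f ∈ F#`, and
no `f z` (`z ∈ Z₀`), `f z ∉ F`, is conjugate to `f` in `Yj` (Burnside): then `V ≤ W`.
-/

set_option autoImplicit false

namespace Cfsg.Agent.Omega.NOThreeL.RWide.ParA.Burn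

open Subgroup Cfsg Cfsg.Agent.ZN.ChoiceBase

universe u

variable {G : Type u} [Group G]

/-- a `2`-group `T` fixes a nontrivial vector of a nontrivial `T`-invariant `2`-group -/
theorem exists_fixed [Finite G] {T M : Subgroup G} (hT : IsPGroup 2 T) (hM : IsPGroup 2 M)
    (hn : T ≤ normalizer (M : Set G)) (hne : M ≠ ⊥) : ∃ w ∈ M, w ≠ 1 ∧ w ∈ centralizer (T : Set G) := by
  have h1 : IsPGroup 2 (T ⊔ M : Subgroup G) := IsPGroup.to_sup_of_normal_right' hT hM hn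
  obtain ⟨w, hw, hw1, hw2⟩ := ParT.Alpha.exists_cent h1 le_sup_right (sup_le hn le_normalizer) hne
  have h2 : T ≤ T ⊔ M := le_sup_left
  exact ⟨w, hw, hw1, centralizer_le h2 hw2⟩

/-- **[B] of `parT` (Burnside): `V ≤ W`**, weak form (no `K`). -/
theorem burn' [Finite G] {T Yj W Cc Yh V F Z₀ : Subgroup G} (two : IsPGroup 2 T)
    (ab : IsElementaryAbelian 2 Yh) (split : Yh ≤ W ⊔ Cc) (dj : W ⊓ Cc = ⊥) (WY : W ≤ Yh) (CY : Cc ≤ Yh) (VY : V ≤ Yh)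
    (TW : T ≤ normalizer (W : Set G)) (TC : T ≤ normalizer (Cc : Set G)) (TV : T ≤ normalizer (V : Set G)) (FW : F ≤ W)
    (zT : ∀ z ∈ Yh, z ∈ centralizer (T : Set G) → z ∈ F ⊔ Z₀) (dF : F ⊓ Z₀ = ⊥)
    (FZ : Z₀ ≤ centralizer (F : Set G)) (Z₀Y : Z₀ ≤ centralizer (Yj : Set G))
    (trW : ∀ f ∈ F, f ≠ 1 → ∀ w ∈ W, w ≠ 1 → ∃ k ∈ Yj, k * f * k⁻¹ = w)
    (trV : ∀ f ∈ F, f ≠ 1 → ∀ v ∈ V, v ≠ 1 → ∃ g ∈ Yj, g * f * g⁻¹ = v)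
    (bs : ∀ f ∈ F, ∀ z ∈ Z₀, ∀ g ∈ Yj, g * f * g⁻¹ = f * z → f * z ∈ F) (hF : F ≠ ⊥) : V ≤ W := by
  have Yab : ∀ u ∈ Yh, ∀ v ∈ Yh, u * v = v * u := fun u hu v hv =>
    congrArg Subtype.val (ab.1.is_comm.comm (⟨u, hu⟩ : Yh) ⟨v, hv⟩)
  by_contra hVW
  obtain ⟨v₀, hv₀, hv₀W⟩ := Set.not_subset.1 hVW
  -- the projection of `V` to `Cc`
  let M : Subgroup G := (V ⊔ W) ⊓ Cc
  have hMne : M ≠ ⊥ := by
    obtain ⟨w, hw, c, hc, e⟩ := PermB.mem_sup_comm (fun x hx y hy => Yab x (WY hx) y (CY hy)) (split (VY hv₀))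
    intro hM
    have h1 : c ∈ M := by
      refine ⟨?_, hc⟩
      have : c = w⁻¹ * v₀ := by rw [e]; group
      rw [this]
      exact (V ⊔ W).mul_mem ((V ⊔ W).inv_mem (le_sup_right (a := V) hw)) (le_sup_left (b := W) hv₀)
    rw [hM] at h1
    have h2 : c = 1 := Subgroup.mem_bot.1 h1
    rw [h2, mul_one] at e
    exact hv₀W (by rw [e]; exact hw)
  have hMY : M ≤ Yh := inf_le_right.trans CY
  have hM2 : IsPGroup 2 M := fun x => ⟨1, by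
    rw [pow_one]
    exact Subtype.ext (by rw [Subgroup.coe_pow]; exact ab.2 x (hMY x.2))⟩
  have hMn : T ≤ normalizer (M : Set G) := by
    intro t ht
    have h1 : cj t (V ⊔ W) = V ⊔ W := by
      have : cj t (V ⊔ W) = cj t V ⊔ cj t W := Subgroup.map_sup _ _ _
      rw [this, cj_eq_of_mem_normalizer (TV ht), cj_eq_of_mem_normalizer (TW ht)]
    rw [mem_normalizer_iff_cj, cj_inf, h1, cj_eq_of_mem_normalizer (TC ht)]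
  obtain ⟨z, hzM, hz1, hzT⟩ := exists_fixed two hM2 hMn hMne
  have hzY : z ∈ Yh := hMY hzM
  have hWC : ∀ x ∈ W, x ∈ Cc → x = 1 := fun x h1 h2 => by
    have h3 : x ∈ W ⊓ Cc := ⟨h1, h2⟩
    rw [dj] at h3
    exact Subgroup.mem_bot.1 h3
  have hFZ : ∀ x ∈ F, x ∈ Z₀ → x = 1 := fun x h1 h2 => by
    have h3 : x ∈ F ⊓ Z₀ := ⟨h1, h2⟩
    rw [dF] at h3
    exact Subgroup.mem_bot.1 h3
  have hZ₀ : ∀ x ∈ Z₀, ∀ y ∈ Yj, y * x = x * y := fun x hx y hy => mem_centralizer_iff.1 (Z₀Y hx) y hy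
  -- `v = u z₀`
  obtain ⟨v, hv, w, hw, e⟩ := PermB.mem_sup_comm (fun x hx y hy => Yab x (VY hx) y (WY hy)) hzM.1
  obtain ⟨f₀, hf₀, z₀, hz₀, e2⟩ := PermB.mem_sup_comm (fun x hx y hy =>
    mem_centralizer_iff.1 (FZ hy) x hx) (zT z hzY hzT)
  have hv1 : v ≠ 1 := fun h => hz1 (hWC z (by rw [e, h, one_mul]; exact hw) hzM.2)
  obtain ⟨u, hu, e1⟩ : ∃ u ∈ W, v = u * z₀ := ⟨w⁻¹ * f₀, mul_mem (inv_mem hw) (FW hf₀), by
    rw [mul_assoc, ← e2, Yab w⁻¹ (WY (inv_mem hw)) z hzY, e]; group⟩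
  obtain ⟨⟨f, hf⟩, hf1⟩ := (Subgroup.ne_bot_iff_exists_ne_one).1 hF
  have hf1' : f ≠ 1 := fun h => hf1 (Subtype.ext h)
  obtain ⟨g, hg, e3⟩ := trV f hf hf1' v hv hv1
  by_cases hu1 : u = 1
  · rw [hu1, one_mul] at e1
    have h2 : g * f = z₀ * g := by rw [← e1, ← e3]; group
    rw [← hZ₀ z₀ hz₀ g hg] at h2
    exact hf1' (hFZ f hf (by rw [mul_left_cancel h2]; exact hz₀))
  · obtain ⟨k, hk, e4⟩ := trW f hf hf1' u hu hu1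
    have h1 : (k⁻¹ * g) * f * (k⁻¹ * g)⁻¹ = f * z₀ := by
      have h2 : (k⁻¹ * g) * f * (k⁻¹ * g)⁻¹ = k⁻¹ * (g * f * g⁻¹) * k := by group
      rw [h2, e3, e1, ← e4]
      have h3 : z₀ * k = k * z₀ := (hZ₀ z₀ hz₀ k hk).symm
      calc k⁻¹ * (k * f * k⁻¹ * z₀) * k = f * k⁻¹ * (z₀ * k) := by group
        _ = f * z₀ := by rw [h3]; group
    have h2 := bs f hf z₀ hz₀ (k⁻¹ * g) (Yj.mul_mem (Yj.inv_mem hk) hg) h1
    have h3 : z₀ ∈ F := by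
      have : z₀ = f⁻¹ * (f * z₀) := by group
      rw [this]
      exact mul_mem (inv_mem hf) h2
    have h4 : z = f₀ := by rw [e2, hFZ z₀ h3 hz₀, mul_one]
    exact hz1 (hWC z (by rw [h4]; exact FW hf₀) hzM.2)

/-- **[B] of `parT` (Burnside): `V ≤ W`** (literal of helper971, #27366, + `FZ`). -/
theorem burn [Finite G] {T P K Yj W Cc Yh V F Z₀ : Subgroup G} (two : IsPGroup 2 T) (TP : T ≤ P) (PY : P ≤ Yj)
    (ab : IsElementaryAbelian 2 Yh) (split : Yh ≤ W ⊔ Cc) (dj : W ⊓ Cc = ⊥) (WY : W ≤ Yh) (CY : Cc ≤ Yh) (VY : V ≤ Yh)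
    (PW : P ≤ normalizer (W : Set G)) (PC : P ≤ normalizer (Cc : Set G)) (KP : K ≤ P) (FW : F ≤ W)
    (zT : ∀ z ∈ Yh, z ∈ centralizer (T : Set G) → z ∈ F ⊔ Z₀) (dF : F ⊓ Z₀ = ⊥)
    (FZ : Z₀ ≤ centralizer (F : Set G)) (Z₀Y : Z₀ ≤ centralizer (Yj : Set G))
    (trW : ∀ f ∈ F, f ≠ 1 → ∀ w ∈ W, w ≠ 1 → ∃ k ∈ K, k * f * k⁻¹ = w)
    (trV : ∀ f ∈ F, f ≠ 1 → ∀ v ∈ V, v ≠ 1 → ∃ g ∈ Yj, g * f * g⁻¹ = v) (TV : T ≤ normalizer (V : Set G))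
    (bs : ∀ f ∈ F, ∀ z ∈ Z₀, ∀ g ∈ Yj, g * f * g⁻¹ = f * z → f * z ∈ F) (hF : F ≠ ⊥) : V ≤ W :=
  burn' two ab split dj WY CY VY (TP.trans PW) (TP.trans PC) TV FW zT dF FZ Z₀Y
    (fun f hf hf1 w hw hw1 => by
      obtain ⟨k, hk, e⟩ := trW f hf hf1 w hw hw1
      exact ⟨k, PY (KP hk), e⟩) trV bs hF

end Cfsg.Agent.Omega.NOThreeL.RWide.ParA.Burn
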