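import Cfsg.Agent.Omega.NOThreeL.RWide.TBlk
import Cfsg.Agent.Omega.NOThreeL.RWide.SemiCnt
import Cfsg.Agent.Omega.NOThreeL.RWide.RootB
import Cfsg.Agent.Omega.KL.TwoS.Fr

/-!
# EXCHANGE over a natural block, any `q`, field automorphisms allowed (helper506 #27090 (X), helper995 #27055 (1), (3))

`N = F²` a natural block (`NB T E N l F e`), `T` a 2-group acting on it, `Q ⊴ T`, `U` elementary abelian, `[U, Q] = 1`,
`A` elementary abelian of maximal order in `O` (`Mx O A`), exact on `U`, `A ∩ C(U) ≤ Q`, `N, U ≤ W` elementary abelian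
and `A`-invariant, `W ≤ O`.

* `cnt` : `|A₀ : C_(A₀)(N)| ≤ |N : C_N(A₀)|` for `A₀ ≤ T` elementary abelian, equality only if `A₀ ≤ C(l)`;
* `full` : equality and `[N, A₀] ≠ 1` ⟹ `A₀` induces the full root group;
* `scal` : an involution acting as an `F`-scalar on `l` centralises `l`;
* **`exch`** : if some `a ∈ A` moves an element of `l`, then `Q` centralises `N`.
-/

set_option autoImplicit false
set_option linter.unusedSectionVars false

namespace Cfsg.Agent.Omega.NOThreeL.RWide.ParA.Exch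

open Subgroup Cfsg
open Cfsg.Agent.ZN.ChoiceBase (cj cj_mono cj_inf cj_centralizer cj_eq_of_mem_normalizer mem_cj mem_normalizer_iff_cj
  cj_cj_inv cj_inv_cj card_cj)
open Cfsg.Agent.Omega.NOThreeL.RWide.TBlk (NB)
open Cfsg.Agent.Omega.NOThreeL.RWide.RootB (act_root)
open Cfsg.Agent.Omega.KL.TwoS (Mx sup_of_relIndex_le relIndex_le_of_sup comm_of_sq)
open Cfsg.Agent.Omega.OM.KTwo (exists_mul_of_mem_sup)
open Cfsg.Agent.Omega.NoFF.Basic (comm_symm comm_mono)
open Cfsg.Agent.Omega.TC.LemZ (card_eq)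

universe u

variable {G : Type u} [Group G]

theorem rne' [Finite G] {H K : Subgroup G} : H.relIndex K ≠ 0 := Subgroup.index_ne_zero_of_finite

section nb

variable {T E N l : Subgroup G} {F : Type} [Field F] {e : G → Fin 2 → F}

theorem e_one (h : NB T E N l F e) : e 1 = 0 := by
  have h1 := h.mul 1 (one_mem _) 1 (one_mem _)
  rw [mul_one] at h1
  exact left_eq_add.1 h1

theorem e_inv (h : NB T E N l F e) {v : G} (hv : v ∈ N) : e v⁻¹ = - e v := by
  have h1 := h.mul v hv v⁻¹ (inv_mem hv)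
  rw [mul_inv_cancel, e_one h] at h1
  exact eq_neg_of_add_eq_zero_right h1.symm

theorem e_inj (h : NB T E N l F e) {v w : G} (hv : v ∈ N) (hw : w ∈ N) (hvw : e v = e w) : v = w := by
  have h2 : v * w⁻¹ = 1 := h.inj _ (mul_mem hv (inv_mem hw)) (by
    rw [h.mul v hv _ (inv_mem hw), e_inv h hw, hvw, add_neg_cancel])
  exact mul_inv_eq_one.1 h2

theorem lN (h : NB T E N l F e) : l ≤ N := fun v hv => ((h.line v).1 hv).1

theorem conjN {g v : G} (hg : g ∈ normalizer (N : Set G)) (hv : v ∈ N) : g * v * g⁻¹ ∈ N :=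
  (mem_normalizer_iff.1 hg v).1 hv

/-- two commutators -/
theorem comm_e (h : NB T E N l F e) {g v : G} (hg : g ∈ normalizer (N : Set G)) (hv : v ∈ N) :
    e (g * v * g⁻¹ * v⁻¹) = e (g * v * g⁻¹) - e v := by
  rw [h.mul _ (conjN hg hv) _ (inv_mem hv), e_inv h hv, sub_eq_add_neg]

variable [CharP F 2]

/-- **an involution acting as a scalar on `l`** -/
theorem scal [Finite F] (h : NB T E N l F e) {a : G} (ha : a ^ 2 = 1) {c : F}
    (hc : ∀ z ∈ l, a * z * a⁻¹ ∈ l ∧ e (a * z * a⁻¹) 0 = c * e z 0) : ∀ z ∈ l, a * z = z * a := by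
  obtain ⟨z₀, hz₀, he⟩ := h.sur ![1, 0]
  have hzl : z₀ ∈ l := (h.line z₀).2 ⟨hz₀, by rw [he]; rfl⟩
  obtain ⟨h1, h2⟩ := hc z₀ hzl
  obtain ⟨h3, h4⟩ := hc _ h1
  have haa : a * a = 1 := by rw [← pow_two]; exact ha
  have e1 : a * (a * z₀ * a⁻¹) * a⁻¹ = z₀ := by
    have : a⁻¹ = a := inv_eq_of_mul_eq_one_right haa
    rw [this]
    calc a * (a * z₀ * a) * a = (a * a) * z₀ * (a * a) := by group
      _ = z₀ := by rw [haa, one_mul, mul_one]
  rw [e1, h2, he] at h4
  have hc1 : c = 1 := by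
    apply SemiCnt.sq_one
    simpa using h4.symm
  intro z hz
  obtain ⟨h5, h6⟩ := hc z hz
  have h7 : a * z * a⁻¹ = z := by
    refine e_inj h (lN h h5) (lN h hz) ?_
    funext i
    fin_cases i
    · rw [hc1, one_mul] at h6; exact h6
    · exact ((h.line _).1 h5).2.trans ((h.line _).1 hz).2.symm
  calc a * z = a * z * a⁻¹ * a := by group
    _ = z * a := by rw [h7]

theorem root_of (h : NB T E N l F e) (hT : IsPGroup 2 T) {s : G} (hs : s ∈ T) (hN : s ∈ normalizer (N : Set G))
    (hl : s ∈ centralizer (l : Set G)) : ∃ c : F, ∀ v ∈ N, e (s * v * s⁻¹) = ![e v 0 + c * e v 1, e v 1] := by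
  obtain ⟨k, hk⟩ := hT ⟨s, hs⟩
  have hk' : s ^ 2 ^ k = 1 := by
    have := congrArg Subtype.val hk
    simpa using this
  exact act_root h.sur h.line ⟨k, hk'⟩ hN hl (h.semi s hs hN)

section act

variable [Finite F] {A : Subgroup G}

/-- coordinates as an equivalence -/
noncomputable def eqv (h : NB T E N l F e) : N ≃ (Fin 2 → F) :=
  Equiv.ofBijective (fun v : N => e v) ⟨fun v w hvw => Subtype.ext (e_inj h v.2 w.2 hvw), fun x => by
    obtain ⟨v, hv, hx⟩ := h.sur x
    exact ⟨⟨v, hv⟩, hx⟩⟩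

theorem eqv_apply (h : NB T E N l F e) (v : N) : eqv h v = e v := rfl

theorem e_eqv_symm (h : NB T E N l F e) (x : Fin 2 → F) : e ((eqv h).symm x : G) = x := by
  have := (eqv h).apply_symm_apply x
  rwa [eqv_apply] at this

/-- the action on `F²` -/
noncomputable def rho (h : NB T E N l F e) (hA : A ≤ normalizer (N : Set G)) : A →* Equiv.Perm (Fin 2 → F) where
  toFun g :=
    { toFun := fun x => e ((g : G) * ((eqv h).symm x : G) * (g : G)⁻¹)
      invFun := fun x => e ((g : G)⁻¹ * ((eqv h).symm x : G) * (g : G)⁻¹⁻¹)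
      left_inv := fun x => by
        have h1 : (g : G) * ((eqv h).symm x : G) * (g : G)⁻¹ ∈ N := conjN (hA g.2) ((eqv h).symm x).2
        have h2 : ((eqv h).symm (e ((g : G) * ((eqv h).symm x : G) * (g : G)⁻¹)) : G) =
            (g : G) * ((eqv h).symm x : G) * (g : G)⁻¹ := e_inj h ((eqv h).symm _).2 h1 (e_eqv_symm h _)
        have h3 : (g : G)⁻¹ * ((g : G) * ((eqv h).symm x : G) * (g : G)⁻¹) * (g : G)⁻¹⁻¹ = ((eqv h).symm x : G) := by
          group
        simp only [h2, h3, e_eqv_symm]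
      right_inv := fun x => by
        have h1 : (g : G)⁻¹ * ((eqv h).symm x : G) * (g : G)⁻¹⁻¹ ∈ N :=
          conjN (inv_mem (hA g.2)) ((eqv h).symm x).2
        have h2 : ((eqv h).symm (e ((g : G)⁻¹ * ((eqv h).symm x : G) * (g : G)⁻¹⁻¹)) : G) =
            (g : G)⁻¹ * ((eqv h).symm x : G) * (g : G)⁻¹⁻¹ := e_inj h ((eqv h).symm _).2 h1 (e_eqv_symm h _)
        have h3 : (g : G) * ((g : G)⁻¹ * ((eqv h).symm x : G) * (g : G)⁻¹⁻¹) * (g : G)⁻¹ = ((eqv h).symm x : G) := by
          group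
        simp only [h2, h3, e_eqv_symm] }
  map_one' := by
    ext x : 1
    simp [e_eqv_symm]
  map_mul' g g' := by
    ext x : 1
    have h1 : (g' : G) * ((eqv h).symm x : G) * (g' : G)⁻¹ ∈ N := conjN (hA g'.2) ((eqv h).symm x).2
    have h2 : ((eqv h).symm (e ((g' : G) * ((eqv h).symm x : G) * (g' : G)⁻¹)) : G) =
        (g' : G) * ((eqv h).symm x : G) * (g' : G)⁻¹ := e_inj h ((eqv h).symm _).2 h1 (e_eqv_symm h _)
    have h3 : ((g * g' : A) : G) * ((eqv h).symm x : G) * ((g * g' : A) : G)⁻¹ =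
        (g : G) * ((g' : G) * ((eqv h).symm x : G) * (g' : G)⁻¹) * (g : G)⁻¹ := by
      push_cast; group
    simp only [Equiv.coe_fn_mk, Equiv.Perm.coe_mul, Function.comp_apply, h2, h3]

theorem rho_apply (h : NB T E N l F e) (hA : A ≤ normalizer (N : Set G)) (g : A) {v : G} (hv : v ∈ N) :
    rho h hA g (e v) = e ((g : G) * v * (g : G)⁻¹) := by
  have h2 : ((eqv h).symm (e v) : G) = v := e_inj h ((eqv h).symm _).2 hv (e_eqv_symm h _)
  change e ((g : G) * ((eqv h).symm (e v) : G) * (g : G)⁻¹) = _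
  rw [h2]

theorem card_N (h : NB T E N l F e) : Nat.card N = Nat.card F ^ 2 := by
  rw [Nat.card_congr (eqv h), Nat.card_fun, Nat.card_eq_fintype_card (α := Fin 2), Fintype.card_fin]

variable [Finite G]

theorem card_fix (h : NB T E N l F e) (hA : A ≤ normalizer (N : Set G)) :
    Nat.card {v : Fin 2 → F // ∀ g : A, rho h hA g v = v} = Nat.card (N ⊓ centralizer (A : Set G) : Subgroup G) := by
  refine Nat.card_congr ⟨fun v => ⟨((eqv h).symm v.1 : G), ((eqv h).symm v.1).2, mem_centralizer_iff.2 fun a ha => ?_⟩,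
    fun w => ⟨e w, ?_⟩, ?_, ?_⟩
  · have h1 := v.2 ⟨a, ha⟩
    have h2 : a * ((eqv h).symm v.1 : G) * a⁻¹ = ((eqv h).symm v.1 : G) := by
      refine e_inj h (conjN (hA ha) ((eqv h).symm v.1).2) ((eqv h).symm v.1).2 ?_
      rw [← rho_apply h hA ⟨a, ha⟩ ((eqv h).symm v.1).2, e_eqv_symm h v.1]
      exact h1
    calc a * ((eqv h).symm v.1 : G) = a * ((eqv h).symm v.1 : G) * a⁻¹ * a := by group
      _ = ((eqv h).symm v.1 : G) * a := by rw [h2]
  · intro g
    rw [rho_apply h hA g w.2.1]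
    have h1 := mem_centralizer_iff.1 w.2.2 (g : G) g.2
    rw [h1, mul_inv_cancel_right]
  · intro v
    exact Subtype.ext (e_eqv_symm h v.1)
  · intro w
    refine Subtype.ext (e_inj h ((eqv h).symm _).2 w.2.1 (e_eqv_symm h _))

theorem ker_rho (h : NB T E N l F e) (hA : A ≤ normalizer (N : Set G)) :
    (rho h hA).ker = (centralizer (N : Set G)).subgroupOf A := by
  ext g
  rw [MonoidHom.mem_ker, mem_subgroupOf, mem_centralizer_iff]
  constructor
  · intro hg v hv
    have h1 := rho_apply h hA g hv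
    rw [hg] at h1
    have h2 : (g : G) * v * (g : G)⁻¹ = v := (e_inj h hv (conjN (hA g.2) hv) h1).symm
    calc v * (g : G) = (g : G) * v * (g : G)⁻¹ * g := by rw [h2]
      _ = g * v := by group
  · intro hg
    ext x : 1
    obtain ⟨v, hv, rfl⟩ := h.sur x
    rw [rho_apply h hA g hv, ← hg v hv, mul_inv_cancel_right]
    rfl

/-- **(N)** : `|A : C_A(N)| ≤ |N : C_N(A)|`, equality only if `A` centralises the line -/
theorem cnt (h : NB T E N l F e) (hAT : A ≤ T) (hA : A ≤ normalizer (N : Set G)) (sq : ∀ a ∈ A, a ^ 2 = 1) :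
    (centralizer (N : Set G)).relIndex A ≤ (centralizer (A : Set G)).relIndex N ∧
      ((centralizer (A : Set G)).relIndex N ≤ (centralizer (N : Set G)).relIndex A → A ≤ centralizer (l : Set G)) := by
  have hsm : ∀ g : A, ∃ σ a b d, SemiCnt.Sm (rho h hA g) σ a b d := by
    intro g
    obtain ⟨σ, a, b, d, h1⟩ := h.semi g (hAT g.2) (hA g.2)
    refine ⟨σ, a, b, d, fun x => ?_⟩
    obtain ⟨v, hv, rfl⟩ := h.sur x
    rw [rho_apply h hA g hv, h1 v hv]
  have h2 : ∀ (g : A) v, rho h hA g (rho h hA g v) = v := by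
    intro g v
    rw [← Equiv.Perm.mul_apply, ← map_mul]
    have : g * g = 1 := Subtype.ext (by
      have := sq g g.2
      rw [pow_two] at this
      exact this)
    rw [this, map_one]; rfl
  obtain ⟨h3, h4⟩ := SemiCnt.semi_cnt (rho h hA) hsm h2
  have hi : Nat.card (rho h hA).range = (centralizer (N : Set G)).relIndex A := by
    rw [← Subgroup.index_ker, ker_rho]; rfl
  rw [hi, card_fix, ← card_N h] at h3 h4
  have h5 := card_eq N (centralizer (A : Set G))
  have p1 : 0 < Nat.card (N ⊓ centralizer (A : Set G) : Subgroup G) := Nat.card_pos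
  refine ⟨?_, fun h6 => ?_⟩
  · rw [h5, mul_comm] at h3
    exact Nat.le_of_mul_le_mul_left h3 p1
  · have h7 : (centralizer (N : Set G)).relIndex A * Nat.card (N ⊓ centralizer (A : Set G) : Subgroup G) =
        Nat.card N := le_antisymm h3 (by rw [h5, mul_comm]; exact Nat.mul_le_mul_right _ h6)
    have h8 := h4 h7
    intro a ha
    rw [mem_centralizer_iff]
    intro z hz
    obtain ⟨hzN, hz1⟩ := (h.line z).1 hz
    have h9 := h8 ⟨a, ha⟩ (e z 0)
    have h10 : e z = ![e z 0, 0] := by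
      funext i
      fin_cases i
      · rfl
      · exact hz1
    rw [← h10, rho_apply h hA ⟨a, ha⟩ hzN] at h9
    have h11 : a * z * a⁻¹ = z := e_inj h (conjN (hA ha) hzN) hzN h9
    calc z * a = a * z * a⁻¹ * a := by rw [h11]
      _ = a * z := by group

/-- **equality and `[N, A] ≠ 1` ⟹ the full root group** -/
theorem full (h : NB T E N l F e) (hT : IsPGroup 2 T) (hAT : A ≤ T) (hA : A ≤ normalizer (N : Set G))
    (hl : A ≤ centralizer (l : Set G)) (hne : ¬ A ≤ centralizer (N : Set G))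
    (hle : (centralizer (A : Set G)).relIndex N ≤ (centralizer (N : Set G)).relIndex A) (c : F) :
    ∃ b ∈ A, ∀ v ∈ N, e (b * v * b⁻¹) = ![e v 0 + c * e v 1, e v 1] := by
  choose t ht using fun b : A => root_of h hT (hAT b.2) (hA b.2) (hl b.2)
  obtain ⟨v₀, hv₀, he⟩ := h.sur ![0, 1]
  have ht0 : ∀ b : A, e ((b : G) * v₀ * (b : G)⁻¹) 0 = t b := fun b => by
    rw [ht b v₀ hv₀, he]; simp
  let τ : A →* Multiplicative F :=
    { toFun := fun b => Multiplicative.ofAdd (t b)
      map_one' := by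
        change Multiplicative.ofAdd (t 1) = 1
        rw [← ht0 1, OneMemClass.coe_one, one_mul, inv_one, mul_one, he]
        rfl
      map_mul' := fun b b' => by
        change Multiplicative.ofAdd (t (b * b')) = Multiplicative.ofAdd (t b + t b')
        have h1 : ((b * b' : A) : G) * v₀ * ((b * b' : A) : G)⁻¹ =
            (b : G) * ((b' : G) * v₀ * (b' : G)⁻¹) * (b : G)⁻¹ := by push_cast; group
        rw [← ht0 (b * b'), h1, ht b _ (conjN (hA b'.2) hv₀), ht b' v₀ hv₀, he]
        simp [add_comm] }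
  have hker : τ.ker = (centralizer (N : Set G)).subgroupOf A := by
    ext b
    rw [MonoidHom.mem_ker, mem_subgroupOf, mem_centralizer_iff]
    constructor
    · intro hb v hv
      have hb' : t b = 0 := hb
      have h2 : (b : G) * v * (b : G)⁻¹ = v := by
        refine e_inj h (conjN (hA b.2) hv) hv ?_
        rw [ht b v hv, hb', zero_mul, add_zero]
        funext i
        fin_cases i <;> rfl
      calc v * (b : G) = (b : G) * v * (b : G)⁻¹ * b := by rw [h2]
        _ = b * v := by group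
    · intro hb
      have h1 := ht0 b
      rw [← hb v₀ hv₀, mul_inv_cancel_right, he] at h1
      change Multiplicative.ofAdd (t b) = 1
      rw [← h1]; rfl
  -- `C_N(A) ≤ l`
  have hcl : N ⊓ centralizer (A : Set G) ≤ l := by
    rintro v ⟨hv, hvc⟩
    obtain ⟨a, ha, ha'⟩ := SetLike.not_le_iff_exists.1 hne
    have hta : t ⟨a, ha⟩ ≠ 0 := by
      intro h0
      apply ha'
      have h1 : (⟨a, ha⟩ : A) ∈ τ.ker := h0
      rw [hker, mem_subgroupOf] at h1
      exact h1
    have h1 := ht ⟨a, ha⟩ v hv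
    have h2 := mem_centralizer_iff.1 hvc a ha
    simp only [h2, mul_inv_cancel_right] at h1
    have h3 := congrFun h1 0
    simp only [Matrix.cons_val_zero] at h3
    refine (h.line v).2 ⟨hv, ?_⟩
    exact (mul_eq_zero.1 (left_eq_add.1 h3)).resolve_left hta
  have hcardl : Nat.card l = Nat.card F := by
    refine Nat.card_congr (Equiv.ofBijective (fun v : l => e v 0) ⟨fun v w hvw => ?_, fun x => ?_⟩)
    · refine Subtype.ext (e_inj h (lN h v.2) (lN h w.2) ?_)
      funext i
      fin_cases i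
      · exact hvw
      · exact ((h.line _).1 v.2).2.trans ((h.line _).1 w.2).2.symm
    · obtain ⟨v, hv, hx⟩ := h.sur ![x, 0]
      exact ⟨⟨v, (h.line v).2 ⟨hv, by rw [hx]; rfl⟩⟩, by simp [hx]⟩
  have h1 : Nat.card (N ⊓ centralizer (A : Set G) : Subgroup G) ≤ Nat.card F := by
    rw [← hcardl]; exact Subgroup.card_le_of_le hcl
  have h2 := card_eq N (centralizer (A : Set G))
  rw [card_N h] at h2
  have hF : 0 < Nat.card F := Nat.card_pos
  have h3 : Nat.card F ≤ (centralizer (A : Set G)).relIndex N := by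
    by_contra h4
    push Not at h4
    have h5 : Nat.card F ^ 2 < Nat.card F * Nat.card F := by
      calc Nat.card F ^ 2 = _ := h2
        _ ≤ Nat.card F * (centralizer (A : Set G)).relIndex N := Nat.mul_le_mul_right _ h1
        _ < Nat.card F * Nat.card F := Nat.mul_lt_mul_of_pos_left h4 hF
    rw [pow_two] at h5
    exact lt_irrefl _ h5
  have h4 : Nat.card F ≤ Nat.card τ.range := by
    rw [← Subgroup.index_ker, hker]
    exact h3.trans hle
  have h5 : τ.range = ⊤ := by
    refine Subgroup.eq_top_of_le_card _ ?_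
    exact h4
  obtain ⟨b, hb⟩ := MonoidHom.range_eq_top.1 h5 (Multiplicative.ofAdd c)
  refine ⟨b, b.2, fun v hv => ?_⟩
  have hb' : t b = c := hb
  rw [ht b v hv, hb']

/-- a normal subgroup `Q` of `T` acting nontrivially contains a nontrivial root element -/
theorem exists_rt (h : NB T E N l F e) (hT : IsPGroup 2 T) (TN : T ≤ normalizer (N : Set G)) {Q : Subgroup G}
    (QT : Q ≤ T) (TQ : T ≤ normalizer (Q : Set G)) (hne : ¬ Q ≤ centralizer (N : Set G)) :
    ∃ g ∈ Q, ∃ t : F, t ≠ 0 ∧ ∀ v ∈ N, e (g * v * g⁻¹) = ![e v 0 + t * e v 1, e v 1] := by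
  obtain ⟨g, hg, hgN⟩ := SetLike.not_le_iff_exists.1 hne
  have hgT := QT hg
  have hgn := TN hgT
  by_cases hl : g ∈ centralizer (l : Set G)
  · obtain ⟨c, hc⟩ := root_of h hT hgT hgn hl
    refine ⟨g, hg, c, fun h0 => hgN ?_, hc⟩
    rw [mem_centralizer_iff]
    intro v hv
    have h2 : g * v * g⁻¹ = v := by
      refine e_inj h (conjN hgn hv) hv ?_
      rw [hc v hv, h0, zero_mul, add_zero]
      funext i
      fin_cases i <;> rfl
    calc v * g = g * v * g⁻¹ * g := by rw [h2]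
      _ = g * v := by group
  · obtain ⟨σ, a, b, d, hs⟩ := h.semi g hgT hgn
    have hd0 : d ≠ 0 := by
      intro h0
      obtain ⟨v, hv, hx⟩ := h.sur ![0, 1]
      have h1 : g⁻¹ * v * g⁻¹⁻¹ ∈ N := conjN (inv_mem hgn) hv
      have h2 := hs _ h1
      have h3 : g * (g⁻¹ * v * g⁻¹⁻¹) * g⁻¹ = v := by group
      rw [h3, hx, h0] at h2
      have h4 := congrFun h2 1
      simp at h4
    by_cases hall : ∀ c : F, c * d = a * σ c
    · exfalso
      apply hl
      have hla : ∀ z ∈ l, g * z * g⁻¹ ∈ l ∧ e (g * z * g⁻¹) 0 = d * e z 0 := by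
        intro z hz
        obtain ⟨hzN, hz1⟩ := (h.line z).1 hz
        have h1 := hs z hzN
        rw [hz1, map_zero, mul_zero, mul_zero, add_zero, ← hall] at h1
        refine ⟨(h.line _).2 ⟨conjN hgn hzN, by rw [h1]; rfl⟩, ?_⟩
        rw [h1, mul_comm]; rfl
      have hpow : ∀ n : ℕ, ∀ z ∈ l, g ^ n * z * (g ^ n)⁻¹ ∈ l ∧ e (g ^ n * z * (g ^ n)⁻¹) 0 = d ^ n * e z 0 := by
        intro n
        induction n with
        | zero => intro z hz; simpa using hz
        | succ n ih =>
          intro z hz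
          obtain ⟨h1, h2⟩ := hla z hz
          obtain ⟨h3, h4⟩ := ih _ h1
          have e1 : g ^ (n + 1) * z * (g ^ (n + 1))⁻¹ = g ^ n * (g * z * g⁻¹) * (g ^ n)⁻¹ := by
            rw [pow_succ]; group
          rw [e1]
          refine ⟨h3, ?_⟩
          rw [h4, h2, pow_succ]; ring
      obtain ⟨k, hk⟩ := hT ⟨g, hgT⟩
      have hk' : g ^ 2 ^ k = 1 := by
        have := congrArg Subtype.val hk
        simpa using this
      have hd : d = 1 := by
        obtain ⟨v, hv, hx⟩ := h.sur ![1, 0]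
        have hvl : v ∈ l := (h.line v).2 ⟨hv, by rw [hx]; rfl⟩
        have h3 := (hpow (2 ^ k) v hvl).2
        rw [hk', one_mul, inv_one, mul_one, hx] at h3
        have : Fact (Nat.Prime 2) := ⟨Nat.prime_two⟩
        have h3' : (1 : F) = d ^ 2 ^ k := by simpa using h3
        have h5 : (d - 1) ^ 2 ^ k = 0 := by
          rw [sub_pow_char_pow, one_pow, ← h3', sub_self]
        exact sub_eq_zero.1 (pow_eq_zero_iff (pow_ne_zero _ two_ne_zero) |>.1 h5)
      rw [mem_centralizer_iff]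
      intro z hz
      obtain ⟨h1, h2⟩ := hla z hz
      have h3 : g * z * g⁻¹ = z := by
        refine e_inj h (lN h h1) (lN h hz) ?_
        funext i
        fin_cases i
        · rw [hd, one_mul] at h2; exact h2
        · exact ((h.line _).1 h1).2.trans ((h.line _).1 hz).2.symm
      calc z * g = g * z * g⁻¹ * g := by rw [h3]
        _ = g * z := by group
    · push Not at hall
      obtain ⟨c, hc⟩ := hall
      obtain ⟨s, hsT, hsr⟩ := h.root c
      have hsn := TN hsT.1
      refine ⟨s * g * s⁻¹ * g⁻¹, mul_mem ((mem_normalizer_iff.1 (TQ hsT.1) g).1 hg) (inv_mem hg), c - a * σ c * d⁻¹,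
        fun h0 => hc ?_, fun v hv => ?_⟩
      · have h1 : c = a * σ c * d⁻¹ := sub_eq_zero.1 h0
        rw [eq_mul_inv_iff_mul_eq₀ hd0] at h1
        exact h1
      · -- `v = g w g⁻¹`
        have hwN : g⁻¹ * v * g⁻¹⁻¹ ∈ N := conjN (inv_mem hgn) hv
        obtain ⟨w, hw⟩ : ∃ w, w = g⁻¹ * v * g⁻¹⁻¹ := ⟨_, rfl⟩
        rw [← hw] at hwN
        have hvw : v = g * w * g⁻¹ := by rw [hw]; group
        -- `w' = s⁻¹ w s`
        have hw'N : s⁻¹ * w * s⁻¹⁻¹ ∈ N := conjN (inv_mem hsn) hwN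
        obtain ⟨w', hw'⟩ : ∃ w', w' = s⁻¹ * w * s⁻¹⁻¹ := ⟨_, rfl⟩
        rw [← hw'] at hw'N
        have hww' : w = s * w' * s⁻¹ := by rw [hw']; group
        have e1 : s * g * s⁻¹ * g⁻¹ * v * (s * g * s⁻¹ * g⁻¹)⁻¹ = s * (g * w' * g⁻¹) * s⁻¹ := by
          rw [hvw, hww']; group
        have h1 := hs w' hw'N
        have h2 := hsr _ (conjN hgn hw'N)
        have h3 := hs w hwN
        have h4 := hsr w' hw'N
        rw [← hww'] at h4
        rw [← hvw] at h3
        rw [e1, h2, h1, h3, h4]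
        funext i
        fin_cases i
        · simp only [Matrix.cons_val_zero, Matrix.cons_val_one, Matrix.cons_val_fin_one, map_add, map_mul,
            Fin.zero_eta]
          field_simp
          ring
        · simp

/-- **EXCHANGE**, at one conjugate of the block -/
theorem exch (h : NB T E N l F e) (hT : IsPGroup 2 T) (TN : T ≤ normalizer (N : Set G)) {Q U W O A : Subgroup G}
    (QT : Q ≤ T) (TQ : T ≤ normalizer (Q : Set G)) (hA : Mx O A) (AQ : A ≤ normalizer (Q : Set G))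
    (AU : A ≤ normalizer (U : Set G)) (AW : A ≤ normalizer (W : Set G)) (A0Q : A ⊓ centralizer (U : Set G) ≤ Q)
    (QU : Q ≤ centralizer (U : Set G)) (WO : W ≤ O) (Wsq : ∀ w ∈ W, w ^ 2 = 1) (NW : N ≤ W) (UW : U ≤ W)
    (ex : (centralizer (U : Set G)).relIndex A ≤ (centralizer (A : Set G)).relIndex U) {a u : G} (ha : a ∈ A)
    (hu : u ∈ l) (hau : a * u ≠ u * a) : Q ≤ centralizer (N : Set G) := by
  have Wab : W ≤ centralizer (W : Set G) := comm_of_sq Wsq
  have hE : Mx O (A ⊓ centralizer (U : Set G) ⊔ U) := hA.sup (UW.trans WO) (fun x hx => Wsq x (UW hx)) ex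
  set A₀ := A ⊓ centralizer (U : Set G) with hA₀
  have hA0A : A₀ ≤ A := inf_le_left
  have hA0U : A₀ ≤ centralizer (U : Set G) := inf_le_right
  have hsc : ∀ c : F, (∀ z ∈ l, a * z * a⁻¹ ∈ l ∧ e (a * z * a⁻¹) 0 = c * e z 0) → False := fun c hc =>
    hau (scal h (hA.sq a ha) hc u hu)
  have hdec : ∀ x ∈ A₀ ⊔ U, ∃ b ∈ A₀, ∃ w ∈ U, b * w = x := fun x hx => by
    obtain ⟨b, hb, w, hw, hx'⟩ := exists_mul_of_mem_sup ((comm_symm hA0U).trans (centralizer_le_normalizer _)) hx
    exact ⟨b, hb, w, hw, hx'.symm⟩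
  have haa : ∀ b ∈ A, a * b = b * a := fun b hb => mem_centralizer_iff.1 (hA.comm hb) a ha
  by_contra hne
  by_cases hc : A₀ ≤ centralizer (N : Set G)
  · -- (b)
    have hUN : U ≤ centralizer (N : Set G) := UW.trans (Wab.trans (centralizer_le NW))
    have hNE : N ≤ A₀ ⊔ U := hE.le_of_comm (NW.trans WO) (fun x hx => Wsq x (NW hx)) (comm_symm (sup_le hc hUN))
    have hk : ∀ y ∈ N, ∃ k ∈ U, a * y * a⁻¹ = y * k := by
      intro y hy
      obtain ⟨b, hb, w, hw, rfl⟩ := hdec y (hNE hy)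
      have h1 : a * w * a⁻¹ ∈ U := (mem_normalizer_iff.1 (AU ha) w).1 hw
      refine ⟨w⁻¹ * (a * w * a⁻¹), mul_mem (inv_mem hw) h1, ?_⟩
      have h2 := haa b (hA0A hb)
      calc a * (b * w) * a⁻¹ = (a * b) * w * a⁻¹ := by group
        _ = b * w * (w⁻¹ * (a * w * a⁻¹)) := by rw [h2]; group
    have hcm : ∀ y ∈ N, ∀ g ∈ Q, g * (a * y * a⁻¹) * g⁻¹ * (a * y * a⁻¹)⁻¹ = g * y * g⁻¹ * y⁻¹ := by
      intro y hy g hg
      obtain ⟨k, hk1, hk2⟩ := hk y hy
      have h1 : k * g = g * k := mem_centralizer_iff.1 (QU hg) k hk1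
      have h2 : g * k * g⁻¹ = k := by rw [← h1]; group
      rw [hk2]
      calc g * (y * k) * g⁻¹ * (y * k)⁻¹ = g * y * g⁻¹ * (g * k * g⁻¹) * k⁻¹ * y⁻¹ := by group
        _ = g * y * g⁻¹ * y⁻¹ := by rw [h2]; group
    obtain ⟨g, hg, t, ht, hgr⟩ := exists_rt h hT TN QT TQ hne
    have hg' : a⁻¹ * g * a ∈ Q := by
      have := (mem_normalizer_iff.1 (inv_mem (AQ ha)) g).1 hg
      rwa [inv_inv] at this
    obtain ⟨g', hgg⟩ : ∃ g', g' = a⁻¹ * g * a := ⟨_, rfl⟩
    rw [← hgg] at hg'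
    have hgn := TN (QT hg)
    have hgn' := TN (QT hg')
    -- `a [g', y] a⁻¹ = [g, y]`
    have hm : ∀ y ∈ N, a * (g' * y * g'⁻¹ * y⁻¹) * a⁻¹ = g * y * g⁻¹ * y⁻¹ := by
      intro y hy
      rw [← hcm y hy g hg, hgg]; group
    have hgl : g' ∈ centralizer (l : Set G) := by
      rw [mem_centralizer_iff]
      intro z hz
      have hzN := lN h hz
      have h1 : g * z * g⁻¹ = z := by
        refine e_inj h (conjN hgn hzN) hzN ?_
        rw [hgr z hzN, ((h.line z).1 hz).2, mul_zero, add_zero]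
        funext i
        fin_cases i
        · rfl
        · exact ((h.line z).1 hz).2.symm
      have h2 := hm z hzN
      rw [h1, mul_inv_cancel] at h2
      have h3 : g' * z * g'⁻¹ * z⁻¹ = 1 := by
        have h4 : a * (g' * z * g'⁻¹ * z⁻¹) = a := by rw [mul_inv_eq_one] at h2; exact h2
        exact mul_eq_left.1 h4
      have h5 : g' * z * g'⁻¹ = z := mul_inv_eq_one.1 h3
      calc z * g' = g' * z * g'⁻¹ * g' := by rw [h5]
        _ = g' * z := by group
    obtain ⟨c', hc'⟩ := root_of h hT (QT hg') hgn' hgl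
    have hcoord : ∀ y ∈ N, e (g' * y * g'⁻¹ * y⁻¹) = ![c' * e y 1, 0] := by
      intro y hy
      rw [comm_e h hgn' hy, hc' y hy]
      funext i
      fin_cases i <;> simp
    have hcoord' : ∀ y ∈ N, e (g * y * g⁻¹ * y⁻¹) = ![t * e y 1, 0] := by
      intro y hy
      rw [comm_e h hgn hy, hgr y hy]
      funext i
      fin_cases i <;> simp
    have hc0 : c' ≠ 0 := by
      intro h0
      obtain ⟨y, hy, hx⟩ := h.sur ![0, 1]
      have h1 : g' * y * g'⁻¹ * y⁻¹ = 1 := by
        refine e_inj h (mul_mem (conjN hgn' hy) (inv_mem hy)) (one_mem _) ?_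
        rw [hcoord y hy, h0, e_one h]
        funext i
        fin_cases i <;> simp
      have h2 := hm y hy
      rw [h1, mul_one, mul_inv_cancel] at h2
      have h3 := hcoord' y hy
      rw [← h2, e_one h, hx] at h3
      have h4 := congrFun h3 0
      simp at h4
      exact ht h4.symm
    refine hsc (t / c') fun z hz => ?_
    obtain ⟨hzN, hz1⟩ := (h.line z).1 hz
    obtain ⟨y, hy, hx⟩ := h.sur ![0, e z 0 / c']
    have h1 : g' * y * g'⁻¹ * y⁻¹ = z := by
      refine e_inj h (mul_mem (conjN hgn' hy) (inv_mem hy)) hzN ?_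
      rw [hcoord y hy, hx]
      funext i
      fin_cases i
      · simp only [Matrix.cons_val_zero, Matrix.cons_val_one, Matrix.cons_val_fin_one, Fin.zero_eta]
        field_simp
      · simpa using hz1.symm
    have h2 := hm y hy
    rw [h1] at h2
    have h3 := hcoord' y hy
    rw [← h2, hx] at h3
    refine ⟨(h.line _).2 ⟨?_, by rw [h3]; rfl⟩, ?_⟩
    · rw [h2]; exact mul_mem (conjN hgn hy) (inv_mem hy)
    · rw [h3]
      simp only [Matrix.cons_val_zero, Matrix.cons_val_one, Matrix.cons_val_fin_one]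
      ring
  · -- (a)
    have hA0T : A₀ ≤ T := A0Q.trans QT
    have hA0N : A₀ ≤ normalizer (N : Set G) := hA0T.trans TN
    have hA0sq : ∀ b ∈ A₀, b ^ 2 = 1 := fun b hb => hA.sq b (hA0A hb)
    obtain ⟨hc1, hc2⟩ := cnt h hA0T hA0N hA0sq
    set X := N ⊔ cj a N with hX
    have hNX : N ≤ X := le_sup_left
    have hXW : X ≤ W := by
      refine sup_le NW ?_
      have h1 := cj_mono a NW
      rwa [cj_eq_of_mem_normalizer (AW ha)] at h1
    have hXab : X ≤ centralizer (X : Set G) := hXW.trans (Wab.trans (centralizer_le hXW))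
    have hXU : X ≤ centralizer (U : Set G) := hXW.trans (Wab.trans (centralizer_le UW))
    have t1 := hE.thom (hXW.trans WO) fun x hx => Wsq x (hXW hx)
    have t2 : (centralizer (A₀ : Set G)).relIndex X ≤ (centralizer ((A₀ ⊔ U : Subgroup G) : Set G)).relIndex X :=
      relIndex_le_of_le_left (centralizer_le (by exact_mod_cast le_sup_left)) rne'
    have t3 : (centralizer (X : Set G)).relIndex (A₀ ⊔ U) ≤ (centralizer (X : Set G)).relIndex A₀ :=
      relIndex_le_of_sup le_sup_left hE.comm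
        (sup_le le_sup_left (le_trans (le_inf le_sup_right (comm_symm hXU)) le_sup_right))
    have t4 : (centralizer (X : Set G)).relIndex A₀ ≤ (centralizer (N : Set G)).relIndex A₀ := by
      rw [← inf_relIndex_right (centralizer (N : Set G))]
      refine relIndex_le_of_le_left ?_ rne'
      rintro b ⟨hbN, hb⟩
      rw [mem_centralizer_iff]
      have key : X ≤ centralizer ({b} : Set G) := by
        refine sup_le (fun y hy => ?_) ?_
        · rw [mem_centralizer_singleton_iff]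
          exact mem_centralizer_iff.1 hbN y hy
        · rintro _ ⟨y, hy, rfl⟩
          rw [mem_centralizer_singleton_iff]
          change a * y * a⁻¹ * b = b * (a * y * a⁻¹)
          have h1 := haa b (hA0A hb)
          have h2 := mem_centralizer_iff.1 hbN y hy
          have h3 : a⁻¹ * b = b * a⁻¹ := by
            calc a⁻¹ * b = a⁻¹ * (b * a) * a⁻¹ := by group
              _ = b * a⁻¹ := by rw [← h1]; group
          calc a * y * a⁻¹ * b = a * y * (a⁻¹ * b) := by group
            _ = a * (y * b) * a⁻¹ := by rw [h3]; group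
            _ = (a * b) * y * a⁻¹ := by rw [h2]; group
            _ = b * (a * y * a⁻¹) := by rw [h1]; group
      intro y hy
      exact mem_centralizer_singleton_iff.1 (key hy)
    have t5 := ((t2.trans t1).trans t3).trans t4
    have t6 : X ≤ N ⊔ (X ⊓ centralizer (A₀ : Set G)) := sup_of_relIndex_le hNX hXab (t5.trans hc1)
    have t7 : (centralizer (A₀ : Set G)).relIndex N ≤ (centralizer (N : Set G)).relIndex A₀ :=
      (relIndex_le_of_le_right hNX rne').trans t5
    have hl := hc2 t7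
    obtain ⟨v₀, hv₀, hx₀⟩ := h.sur ![0, 1]
    have hav : a * v₀ * a⁻¹ ∈ X := (le_sup_right : cj a N ≤ X) ⟨v₀, hv₀, rfl⟩
    obtain ⟨v', hv', c, hc', hvc⟩ := exists_mul_of_mem_sup
      ((inf_le_left.trans (hXab.trans (centralizer_le hNX))).trans (centralizer_le_normalizer _)) (t6 hav)
    refine hsc (e v' 1) fun z hz => ?_
    obtain ⟨hzN, hz1⟩ := (h.line z).1 hz
    obtain ⟨b, hb, hbr⟩ := full h hT hA0T hA0N hl hc t7 (e z 0)
    have hbn := hA0N hb
    have h1 : b * v₀ * b⁻¹ * v₀⁻¹ = z := by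
      refine e_inj h (mul_mem (conjN hbn hv₀) (inv_mem hv₀)) hzN ?_
      rw [comm_e h hbn hv₀, hbr v₀ hv₀, hx₀]
      funext i
      fin_cases i
      · simp
      · simpa using hz1.symm
    have h2 : a * z * a⁻¹ = b * v' * b⁻¹ * v'⁻¹ := by
      have h3 := haa b (hA0A hb)
      have h4 : b * c = c * b := mem_centralizer_iff.1 hc'.2 b hb
      have h5 : b * c * b⁻¹ = c := by rw [h4]; group
      have h6 : a * b⁻¹ = b⁻¹ * a := by
        calc a * b⁻¹ = b⁻¹ * (b * a) * b⁻¹ := by group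
          _ = b⁻¹ * a := by rw [← h3]; group
      calc a * z * a⁻¹ = a * (b * v₀ * b⁻¹ * v₀⁻¹) * a⁻¹ := by rw [h1]
        _ = (a * b) * v₀ * b⁻¹ * v₀⁻¹ * a⁻¹ := by group
        _ = b * a * v₀ * (a⁻¹ * (a * b⁻¹)) * v₀⁻¹ * a⁻¹ := by rw [h3]; group
        _ = b * (a * v₀ * a⁻¹) * b⁻¹ * (a * v₀ * a⁻¹)⁻¹ := by rw [h6]; group
        _ = b * v' * b⁻¹ * (b * c * b⁻¹) * c⁻¹ * v'⁻¹ := by rw [hvc]; group
        _ = b * v' * b⁻¹ * v'⁻¹ := by rw [h5]; group
    have h3 : e (b * v' * b⁻¹ * v'⁻¹) = ![e z 0 * e v' 1, 0] := by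
      rw [comm_e h hbn hv', hbr v' hv']
      funext i
      fin_cases i <;> simp
    refine ⟨(h.line _).2 ⟨?_, by rw [h2, h3]; rfl⟩, ?_⟩
    · rw [h2]; exact mul_mem (conjN hbn hv') (inv_mem hv')
    · rw [h2, h3]
      simp only [Matrix.cons_val_zero]
      ring

end act

end nb

end Cfsg.Agent.Omega.NOThreeL.RWide.ParA.Exch
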