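import Cfsg.Agent.Omega.EDel.Bx.Exch
import Cfsg.Agent.Omega.NOThreeL.RWide.PIn
import Cfsg.Agent.Omega.NOThreeL.RWide.TBlk

/-!
# `par` over `T`, the active case (helper506 #27090): [X] EXCHANGE, all `q`

`V` a natural module with root line `R` on which the 2-group `T` acts semilinearly, `Q ≤ T` normal in `P`,
`Ex O Q P E U`, `V ≤ E`. If an `A` of maximal order in `O` is exact on `U` and moves a conjugate of some `u ∈ R ∩ U`,
then `Q` centralises `V` : `exch_all`.
-/

set_option autoImplicit false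
set_option linter.unusedSectionVars false

namespace Cfsg.Agent.Omega.NOThreeL.RWide.ParA

open Subgroup Cfsg Cfsg.Agent.ZN.ChoiceBase
open Cfsg.Agent.Omega.KL.TwoS (Mx sup_of_relIndex_le relIndex_le_of_sup)
open Cfsg.Agent.Omega.EDel.AOF (Ex)

universe u

variable {G : Type u} [Group G]

/-- coordinates of `V` -/
structure MV (T V R : Subgroup G) {F : Type} [Field F] (e : G → Fin 2 → F) : Prop where
  mul : ∀ v ∈ V, ∀ w ∈ V, e (v * w) = e v + e w
  inj : ∀ v ∈ V, e v = 0 → v = 1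
  sur : ∀ x : Fin 2 → F, ∃ v ∈ V, e v = x
  line : ∀ v, v ∈ R ↔ v ∈ V ∧ e v 1 = 0
  norm : T ≤ normalizer (V : Set G)
  semi : ∀ t ∈ T, ∃ (σ : F ≃+* F) (a b d : F),
    ∀ v ∈ V, e (t * v * t⁻¹) = ![a * σ (e v 0) + b * σ (e v 1), d * σ (e v 1)]
  root : ∀ c : F, ∃ s ∈ T, ∀ v ∈ V, e (s * v * s⁻¹) = ![e v 0 + c * e v 1, e v 1]

theorem MV.of_nb {S E V R T : Subgroup G} {F : Type} [Field F] {e : G → Fin 2 → F} (h : TBlk.NB S E V R F e)
    (TS : T ≤ S) (TV : T ≤ normalizer (V : Set G)) (ET : S ⊓ E ≤ T) : MV T V R e where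
  mul := h.mul
  inj := h.inj
  sur := h.sur
  line := h.line
  norm := TV
  semi := fun t ht => h.semi t (TS ht) (TV ht)
  root := fun c => by
    obtain ⟨s, hs, h1⟩ := h.root c
    exact ⟨s, ET hs, h1⟩

theorem eq_one_of_pow {F : Type} [Field F] [CharP F 2] {d : F} {n : ℕ} (h : d ^ 2 ^ n = 1) : d = 1 := by
  have : Fact (Nat.Prime 2) := ⟨Nat.prime_two⟩
  have h1 : (d - 1) ^ 2 ^ n = 0 := by rw [sub_pow_char_pow, h, one_pow, sub_self]
  exact sub_eq_zero.1 (pow_eq_zero_iff (by positivity) |>.1 h1)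

namespace MV

variable {T V R : Subgroup G} {F : Type} [Field F] {e : G → Fin 2 → F} (M : MV T V R e)
include M

theorem RV : R ≤ V := fun v hv => ((M.line v).1 hv).1

theorem e_one : e 1 = 0 := by
  have h1 := M.mul 1 (one_mem _) 1 (one_mem _)
  rw [mul_one] at h1
  exact left_eq_add.1 h1

theorem ext {v w : G} (hv : v ∈ V) (hw : w ∈ V) (h : e v = e w) : v = w := by
  have h1 := M.mul (v * w⁻¹) (mul_mem hv (inv_mem hw)) w hw
  rw [inv_mul_cancel_right, h] at h1
  exact mul_inv_eq_one.1 (M.inj _ (mul_mem hv (inv_mem hw)) (right_eq_add.1 h1))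

theorem conj_mem {t v : G} (ht : t ∈ T) (hv : v ∈ V) : t * v * t⁻¹ ∈ V := (mem_normalizer_iff.1 (M.norm ht) v).1 hv

/-- a root element -/
def Rt (_M : MV T V R e) (g : G) (c : F) : Prop := ∀ v ∈ V, e (g * v * g⁻¹) = ![e v 0 + c * e v 1, e v 1]

theorem rt_cent {g : G} (hg : g ∈ T) (h : M.Rt g 0) : ∀ v ∈ V, g * v = v * g := by
  intro v hv
  apply mul_inv_eq_iff_eq_mul.1
  refine M.ext (M.conj_mem hg hv) hv ?_
  rw [h v hv, zero_mul, add_zero]
  funext i
  fin_cases i <;> rfl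

/-- an element of `T` which fixes `R` is a root element -/
theorem rt_of [CharP F 2] (hT : IsPGroup 2 T) {g : G} (hg : g ∈ T) (h : ∀ x ∈ R, g * x = x * g) :
    ∃ c, M.Rt g c := by
  obtain ⟨σ, a, b, d, h1⟩ := M.semi g hg
  have h2 : ∀ x : F, a * σ x = x := by
    intro x
    obtain ⟨v, hv, hvx⟩ := M.sur ![x, 0]
    have hvR : v ∈ R := (M.line v).2 ⟨hv, by rw [hvx]; rfl⟩
    have h3 := h1 v hv
    rw [h v hvR, mul_inv_cancel_right, hvx] at h3
    have h4 := congrFun h3 0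
    simp only [Matrix.cons_val_zero, Matrix.cons_val_one, map_zero, mul_zero, add_zero] at h4
    exact h4.symm
  have ha : a = 1 := by
    have := h2 1
    rwa [map_one, mul_one] at this
  have hσ : ∀ x, σ x = x := fun x => by
    have := h2 x
    rwa [ha, one_mul] at this
  have h3 : ∀ v ∈ V, e (g * v * g⁻¹) 1 = d * e v 1 := by
    intro v hv
    rw [h1 v hv]
    change d * σ (e v 1) = _
    rw [hσ]
  have h4 : ∀ n : ℕ, ∀ v ∈ V, e (g ^ n * v * (g ^ n)⁻¹) 1 = d ^ n * e v 1 := by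
    intro n
    induction n with
    | zero => intro v _; simp
    | succ n ih =>
      intro v hv
      have e1 : g ^ (n + 1) * v * (g ^ (n + 1))⁻¹ = g * (g ^ n * v * (g ^ n)⁻¹) * g⁻¹ := by
        rw [pow_succ', mul_inv_rev]; group
      rw [e1, h3 _ (M.conj_mem (pow_mem hg n) hv), ih v hv, pow_succ']
      ring
  obtain ⟨v, hv, hv1⟩ := M.sur ![0, 1]
  obtain ⟨n, hn⟩ := hT ⟨g, hg⟩
  have hn' : g ^ 2 ^ n = 1 := by simpa using congrArg Subtype.val hn
  have h5 := h4 (2 ^ n) v hv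
  rw [hn', one_mul, inv_one, mul_one, hv1] at h5
  have hd : d = 1 := by
    apply eq_one_of_pow (n := n)
    simpa using h5.symm
  refine ⟨b, fun v hv => ?_⟩
  rw [h1 v hv, ha, hσ, hσ, hd, one_mul, one_mul]

theorem rt_fix {g : G} (hg : g ∈ T) {c : F} (h : M.Rt g c) : ∀ x ∈ R, g * x = x * g := by
  intro x hx
  have hx' := (M.line x).1 hx
  apply mul_inv_eq_iff_eq_mul.1
  refine M.ext (M.conj_mem hg hx'.1) hx'.1 ?_
  rw [h x hx'.1, hx'.2, mul_zero, add_zero]
  funext i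
  fin_cases i
  · rfl
  · exact hx'.2.symm

/-- the element of `R` with coordinate `c` -/
theorem exists_w (c : F) : ∃ w ∈ R, e w = ![c, 0] := by
  obtain ⟨v, hv, h1⟩ := M.sur ![c, 0]
  exact ⟨v, (M.line v).2 ⟨hv, by rw [h1]; rfl⟩, h1⟩

/-- **scalars of order two are trivial** -/
theorem scal [CharP F 2] {a u : G} (ha : a ^ 2 = 1) {l : F} (h : ∀ c : F, ∀ w ∈ R, e w = ![c, 0] → a * w * a⁻¹ ∈ R ∧
    e (a * w * a⁻¹) = ![l * c, 0]) (hu : u ∈ R) : a * u * a⁻¹ = u := by
  have hu' := (M.line u).1 hu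
  set c := e u 0 with hc
  have hue : e u = ![c, 0] := by
    funext i
    fin_cases i
    · rfl
    · exact hu'.2
  obtain ⟨h1, h2⟩ := h c u hu hue
  obtain ⟨h3, h4⟩ := h _ _ h1 h2
  have e1 : a * (a * u * a⁻¹) * a⁻¹ = u := by
    calc a * (a * u * a⁻¹) * a⁻¹ = a ^ 2 * u * (a ^ 2)⁻¹ := by rw [pow_two]; group
      _ = u := by rw [ha]; group
  rw [e1, hue] at h4
  have h5 : c = l * (l * c) := congrFun h4 0
  refine M.ext (M.RV h1) hu'.1 ?_
  rw [h2, hue]
  by_cases hc0 : c = 0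
  · rw [hc0, mul_zero]
  · have h6 : l ^ 2 ^ 1 = 1 := by
      apply mul_right_cancel₀ hc0
      rw [one_mul]
      calc l ^ 2 ^ 1 * c = l * (l * c) := by ring
        _ = c := h5.symm
    rw [eq_one_of_pow h6, one_mul]

end MV

variable [Finite G] {O Q P E U T V R A : Subgroup G} {F : Type} [Field F] [CharP F 2] {e : G → Fin 2 → F}

set_option maxHeartbeats 800000 in
/-- **EXCHANGE**, `r = 1` -/
theorem exch_one (hx : Ex O Q P E U) (TP : T ≤ P) (QT : Q ≤ T) (T2 : IsPGroup 2 T) (M : MV T V R e) (VE : V ≤ E)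
    (no : ∀ A₀ : Subgroup G, A₀ ≤ Q → (∀ x ∈ A₀, x ^ 2 = 1) →
      (centralizer (V : Set G)).relIndex A₀ ≤ (centralizer (A₀ : Set G)).relIndex V)
    (rt : ∀ A₀ : Subgroup G, A₀ ≤ Q → (∀ x ∈ A₀, x ^ 2 = 1) →
      (centralizer (A₀ : Set G)).relIndex V ≤ (centralizer (V : Set G)).relIndex A₀ → RootOn A₀ V R)
    (hA : Mx O A) (hex : (centralizer (U : Set G)).relIndex A ≤ (centralizer (A : Set G)).relIndex U) {u a : G}
    (hu : u ∈ R) (ha : a ∈ A) (hne : a * u * a⁻¹ ≠ u) : ∀ g ∈ Q, ∀ x ∈ V, g * x = x * g := by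
  have haP : a ∈ P := hx.OR (hA.le ha)
  have ha2 := hA.sq a ha
  have hcomA : ∀ c ∈ A, a * c = c * a := fun c hc => mem_centralizer_iff.1 (hA.comm hc) a ha
  -- `A₀`
  set A₀ := A ⊓ centralizer (U : Set G) with hA₀
  set E₀ := A₀ ⊔ U with hE₀
  have hMx : Mx O E₀ := hA.sup (hx.UE.trans hx.EO) (fun x hxU => hx.Esq x (hx.UE hxU)) hex
  have hA₀sq : ∀ x ∈ A₀, x ^ 2 = 1 := fun x hx' => hA.sq x hx'.1
  have hAU : ∀ c ∈ A₀, ∀ x ∈ U, c * x = x * c := fun c hc x hxU => (mem_centralizer_iff.1 hc.2 x hxU).symm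
  have hA₀Q : A₀ ≤ Q := fun c hc => hx.OQ c (hA.le hc.1) (hAU c hc)
  have hdec : ∀ y ∈ E₀, ∃ c ∈ A₀, ∃ x ∈ U, y = c * x := by
    intro y hy
    have hn : U ≤ normalizer (A₀ : Set G) :=
      le_trans (fun x hxU => mem_centralizer_iff.2 fun c hc => hAU c hc x hxU) (centralizer_le_normalizer _)
    exact Cfsg.Agent.Omega.OM.KTwo.exists_mul_of_mem_sup hn hy
  have hUc : ∀ x ∈ U, ∀ y ∈ E, x * y = y * x := fun x hxU y hy => hx.ecomm (hx.UE hxU) hy
  -- conjugates by `a`
  have haE : ∀ x ∈ E, a * x * a⁻¹ ∈ E := fun x hxE => hx.conj_mem haP hxE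
  have hact : ∀ c ∈ A, ∀ y : G, c * (a * y * a⁻¹) * c⁻¹ = a * (c * y * c⁻¹) * a⁻¹ := by
    intro c hc y
    have h1 := hcomA c hc
    have h2 : a⁻¹ * c⁻¹ = c⁻¹ * a⁻¹ := by rw [← mul_inv_rev, ← mul_inv_rev, h1]
    calc c * (a * y * a⁻¹) * c⁻¹ = (c * a) * y * (a⁻¹ * c⁻¹) := by group
      _ = (a * c) * y * (c⁻¹ * a⁻¹) := by rw [h1, h2]
      _ = a * (c * y * c⁻¹) * a⁻¹ := by group
  by_cases hcase : A₀ ≤ centralizer (V : Set G)
  · -- (b)
    have hVE₀ : V ≤ E₀ := by
      refine hMx.le_of_comm (VE.trans hx.EO) (fun x hxV => hx.Esq x (VE hxV)) fun x hxV => ?_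
      refine mem_centralizer_iff.2 fun y hy => ?_
      obtain ⟨c, hc, w, hw, rfl⟩ := hdec y hy
      have h1 : c * x = x * c := (mem_centralizer_iff.1 (hcase hc) x hxV).symm
      calc c * w * x = c * (w * x) := by group
        _ = (c * x) * w := by rw [hUc w hw x (VE hxV)]; group
        _ = x * (c * w) := by rw [h1]; group
    -- (★)
    have hstar : ∀ g ∈ Q, ∀ x ∈ V, g * (a * x * a⁻¹) * g⁻¹ * (a * x * a⁻¹)⁻¹ = g * x * g⁻¹ * x⁻¹ := by
      intro g hg x hxV
      obtain ⟨c, hc, w, hw, hcw⟩ := hdec x (hVE₀ hxV)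
      have hd : w⁻¹ * (a * w * a⁻¹) ∈ U := mul_mem (inv_mem hw) ((mem_normalizer_iff.1 (hx.RU haP) _).1 hw)
      set d := w⁻¹ * (a * w * a⁻¹) with hdd
      have h1 : a * x * a⁻¹ = x * d := by
        have h2 := hcomA c hc.1
        calc a * x * a⁻¹ = (a * c) * w * a⁻¹ := by rw [hcw]; group
          _ = (c * a) * w * a⁻¹ := by rw [h2]
          _ = x * d := by rw [hcw, hdd]; group
      have h3 := hx.QU g hg d hd
      rw [h1]
      calc g * (x * d) * g⁻¹ * (x * d)⁻¹ = g * x * (d * g⁻¹) * d⁻¹ * x⁻¹ := by group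
        _ = g * x * (g⁻¹ * d) * d⁻¹ * x⁻¹ := by
            rw [hx.QU g⁻¹ (inv_mem hg) d hd]
        _ = g * x * g⁻¹ * x⁻¹ := by group
    have haQ : ∀ g ∈ Q, a⁻¹ * g * a ∈ Q := by
      intro g hg
      have := (mem_normalizer_iff.1 (hx.nQ (inv_mem haP)) g).1 hg
      rwa [inv_inv] at this
    have hstar' : ∀ g ∈ Q, ∀ x ∈ V, g * x * g⁻¹ * x⁻¹ =
        a * ((a⁻¹ * g * a) * x * (a⁻¹ * g * a)⁻¹ * x⁻¹) * a⁻¹ := by
      intro g hg x hxV
      rw [← hstar g hg x hxV]
      group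
    have hkey : ∀ g ∈ Q, ∀ c, M.Rt g c → c = 0 := by
      intro g hg c hc
      by_contra hc0
      -- `g'` is a root element
      have hg'R : ∀ x ∈ R, (a⁻¹ * g * a) * x = x * (a⁻¹ * g * a) := by
        intro x hxR
        have h1 := hstar' g hg x (M.RV hxR)
        rw [M.rt_fix (QT hg) hc x hxR, mul_inv_cancel_right, mul_inv_cancel] at h1
        have h2 : a⁻¹ * g * a * x * (a⁻¹ * g * a)⁻¹ * x⁻¹ = 1 := conj_eq_one_iff.1 h1.symm
        exact mul_inv_eq_iff_eq_mul.1 (mul_inv_eq_one.1 h2)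
      obtain ⟨c', hc'⟩ := M.rt_of T2 (QT (haQ g hg)) hg'R
      -- commutators
      have hcom : ∀ g ∈ Q, ∀ c, M.Rt g c → ∀ x ∈ V, g * x * g⁻¹ * x⁻¹ ∈ R ∧
          e (g * x * g⁻¹ * x⁻¹) = ![c * e x 1, 0] := by
        intro g hg c hc x hxV
        have hxg := M.conj_mem (QT hg) hxV
        have hm := mul_mem hxg (inv_mem hxV)
        have h1 := M.mul _ hm x hxV
        rw [inv_mul_cancel_right, hc x hxV] at h1
        have h2 : e (g * x * g⁻¹ * x⁻¹) = ![c * e x 1, 0] := by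
          have h3 := eq_sub_of_add_eq h1.symm
          rw [h3]
          funext i
          fin_cases i
          · change e x 0 + c * e x 1 - e x 0 = c * e x 1
            ring
          · change e x 1 - e x 1 = 0
            ring
        exact ⟨(M.line _).2 ⟨hm, by rw [h2]; rfl⟩, h2⟩
      have hc'0 : c' ≠ 0 := by
        rintro rfl
        obtain ⟨v, hv, hv1⟩ := M.sur ![0, 1]
        have h1 := hstar' g hg v hv
        have h2 := M.rt_cent (QT (haQ g hg)) hc' v hv
        rw [h2, mul_inv_cancel_right, mul_inv_cancel, mul_one, mul_inv_cancel] at h1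
        have h3 := (hcom g hg c hc v hv).2
        rw [h1, M.e_one, hv1] at h3
        apply hc0
        have := congrFun h3 0
        simpa using this.symm
      refine hne (M.scal (l := c / c') ha2 (fun t w hw hwt => ?_) hu)
      obtain ⟨v, hv, hv1⟩ := M.sur ![0, t / c']
      obtain ⟨h1, h2⟩ := hcom _ (haQ g hg) c' hc' v hv
      obtain ⟨h3, h4⟩ := hcom g hg c hc v hv
      have h5 : a⁻¹ * g * a * v * (a⁻¹ * g * a)⁻¹ * v⁻¹ = w := by
        refine M.ext (M.RV h1) (M.RV hw) ?_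
        rw [h2, hwt, hv1]
        change ![c' * (t / c'), 0] = _
        rw [mul_div_cancel₀ _ hc'0]
      have h6 := hstar' g hg v hv
      rw [h5] at h6
      rw [← h6]
      refine ⟨h3, ?_⟩
      rw [h4, hv1]
      change ![c * (t / c'), 0] = _
      congr 1
      ring
    -- all elements of `Q`
    intro g hg
    obtain ⟨σ, α, β, δ, hg1⟩ := M.semi g (QT hg)
    have hsq : ∀ c : F, α * σ c = c * δ := by
      intro c
      obtain ⟨s, hs, hs1⟩ := M.root c
      have hs' : M.Rt s c := hs1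
      have h1 : g * (s * g⁻¹ * s⁻¹) ∈ Q :=
        mul_mem hg ((mem_normalizer_iff.1 (hx.nQ (TP hs)) _).1 (inv_mem hg))
      have h2 : ∀ x ∈ R, g * (s * g⁻¹ * s⁻¹) * x = x * (g * (s * g⁻¹ * s⁻¹)) := by
        intro x hxR
        have hsx := M.rt_fix hs hs' x hxR
        have hsx' : s⁻¹ * x = x * s⁻¹ := by
          rw [eq_mul_inv_iff_mul_eq, mul_assoc, ← hsx, inv_mul_cancel_left]
        have hgx : g⁻¹ * x * g ∈ R := by
          obtain ⟨σ', α', β', δ', hg2⟩ := M.semi g⁻¹ (inv_mem (QT hg))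
          have h3 := (M.line x).1 hxR
          have h4 := hg2 x h3.1
          rw [inv_inv] at h4
          have h5 := M.conj_mem (inv_mem (QT hg)) h3.1
          rw [inv_inv] at h5
          refine (M.line _).2 ⟨h5, ?_⟩
          rw [h4, h3.2]
          simp
        have hsg := M.rt_fix hs hs' _ hgx
        calc g * (s * g⁻¹ * s⁻¹) * x = g * s * g⁻¹ * (s⁻¹ * x) := by group
          _ = g * (s * (g⁻¹ * x * g)) * g⁻¹ * s⁻¹ := by rw [hsx']; group
          _ = g * ((g⁻¹ * x * g) * s) * g⁻¹ * s⁻¹ := by rw [hsg]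
          _ = x * (g * (s * g⁻¹ * s⁻¹)) := by group
      obtain ⟨c₁, hc₁⟩ := M.rt_of T2 (QT h1) h2
      have h3 := hkey _ h1 _ hc₁
      rw [h3] at hc₁
      have h4 := M.rt_cent (QT h1) hc₁
      -- `g s = s g` on `V`
      obtain ⟨v, hv, hv1⟩ := M.sur ![0, 1]
      have h5 : g * (s * v * s⁻¹) * g⁻¹ = s * (g * v * g⁻¹) * s⁻¹ := by
        have h6 := M.conj_mem hs (M.conj_mem (QT hg) hv)
        have h7 := h4 _ h6
        calc g * (s * v * s⁻¹) * g⁻¹ = g * (s * g⁻¹ * s⁻¹) * (s * (g * v * g⁻¹) * s⁻¹) *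
              (g * (s * g⁻¹ * s⁻¹))⁻¹ := by group
          _ = s * (g * v * g⁻¹) * s⁻¹ := by rw [h7]; group
      have h6 : e (g * (s * v * s⁻¹) * g⁻¹) 0 = e (s * (g * v * g⁻¹) * s⁻¹) 0 := by rw [h5]
      rw [hg1 _ (M.conj_mem hs hv), hs' v hv, hs' _ (M.conj_mem (QT hg) hv), hg1 v hv, hv1] at h6
      simp only [Matrix.cons_val_zero, Matrix.cons_val_one, map_zero, mul_zero, zero_add,
        map_one, mul_one] at h6
      have h7 : α * σ c + β = β + c * δ := by simpa using h6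
      rw [add_comm] at h7
      exact add_left_cancel h7
    have hαδ : α = δ := by
      have := hsq 1
      rwa [map_one, mul_one, one_mul] at this
    -- `g` has order a power of 2
    have hδ0 : δ ≠ 0 := by
      intro h0
      obtain ⟨v, hv, hv1⟩ := M.sur ![1, 0]
      have h1 := hg1 v hv
      rw [hαδ, h0, zero_mul, zero_mul, hv1] at h1
      have h2 : g * v * g⁻¹ = 1 := M.inj _ (M.conj_mem (QT hg) hv) (by
        rw [h1]; funext i; fin_cases i <;> simp)
      have h3 : v = 1 := conj_eq_one_iff.1 h2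
      rw [h3, M.e_one] at hv1
      exact zero_ne_one (congrFun hv1 0)
    have hσ : ∀ c, σ c = c := fun c => by
      have := hsq c
      rw [hαδ, mul_comm] at this
      exact mul_right_cancel₀ hδ0 this
    have h3 : ∀ v ∈ V, e (g * v * g⁻¹) 1 = δ * e v 1 := by
      intro v hv
      rw [hg1 v hv]
      change δ * σ (e v 1) = _
      rw [hσ]
    have h4 : ∀ n : ℕ, ∀ v ∈ V, e (g ^ n * v * (g ^ n)⁻¹) 1 = δ ^ n * e v 1 := by
      intro n
      induction n with
      | zero => intro v _; simp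
      | succ n ih =>
        intro v hv
        have e1 : g ^ (n + 1) * v * (g ^ (n + 1))⁻¹ = g * (g ^ n * v * (g ^ n)⁻¹) * g⁻¹ := by
          rw [pow_succ', mul_inv_rev]; group
        rw [e1, h3 _ (M.conj_mem (pow_mem (QT hg) n) hv), ih v hv, pow_succ']
        ring
    obtain ⟨v, hv, hv1⟩ := M.sur ![0, 1]
    obtain ⟨n, hn⟩ := T2 ⟨g, QT hg⟩
    have hn' : g ^ 2 ^ n = 1 := by simpa using congrArg Subtype.val hn
    have h5 := h4 (2 ^ n) v hv
    rw [hn', one_mul, inv_one, mul_one, hv1] at h5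
    have hδ : δ = 1 := by
      apply eq_one_of_pow (n := n)
      simpa using h5.symm
    have hgR : M.Rt g β := by
      intro v hv
      rw [hg1 v hv, hαδ, hσ, hσ, hδ, one_mul, one_mul]
    have h6 := hkey g hg β hgR
    rw [h6] at hgR
    exact M.rt_cent (QT hg) hgR
  · -- (a)
    exfalso
    set Va : Subgroup G := cj a V with hVa
    set X := V ⊔ (Va ⊔ U) with hX
    have hVaE : Va ≤ E := by
      rintro _ ⟨x, hxV, rfl⟩
      exact haE x (VE hxV)
    have hXE : X ≤ E := sup_le VE (sup_le hVaE hx.UE)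
    have hXc : X ≤ centralizer (X : Set G) := fun x hxX => mem_centralizer_iff.2 fun y hy =>
      hx.ecomm (hXE hy) (hXE hxX)
    have hcX : A₀ ⊓ centralizer (V : Set G) ≤ centralizer (X : Set G) := by
      rintro c ⟨hc, hcV⟩
      have h5 : X ≤ centralizer ({c} : Set G) := by
        refine sup_le (fun x hxV => mem_centralizer_singleton_iff.2 (mem_centralizer_iff.1 hcV x hxV))
          (sup_le ?_ fun x hxU => mem_centralizer_singleton_iff.2 (hAU c hc x hxU).symm)
        rintro _ ⟨x, hxV, rfl⟩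
        refine mem_centralizer_singleton_iff.2 ?_
        change a * x * a⁻¹ * c = c * (a * x * a⁻¹)
        have h6 := hact c hc.1 x
        have h7 : c * x * c⁻¹ = x := by rw [← mem_centralizer_iff.1 hcV x hxV, mul_inv_cancel_right]
        rw [h7] at h6
        exact (mul_inv_eq_iff_eq_mul.1 h6).symm
      exact mem_centralizer_iff.2 fun x hxX => mem_centralizer_singleton_iff.1 (h5 hxX)
    have hE₀c : E₀ ≤ centralizer (E₀ : Set G) := hMx.comm
    have h1 : (centralizer (X : Set G)).relIndex E₀ ≤ (centralizer (X : Set G)).relIndex A₀ := by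
      refine relIndex_le_of_sup le_sup_left hE₀c (sup_le le_sup_left (le_sup_of_le_right ?_))
      exact le_inf le_sup_right fun x hxU => mem_centralizer_iff.2 fun y hy => (hUc x hxU y (hXE hy)).symm
    have h2 : (centralizer (X : Set G)).relIndex A₀ ≤ (centralizer (V : Set G)).relIndex A₀ := by
      rw [← inf_relIndex_right (centralizer (V : Set G)) A₀]
      refine relIndex_le_of_le_left ?_ index_ne_zero_of_finite
      rw [inf_comm]
      exact hcX
    have h3 : (centralizer (A₀ : Set G)).relIndex X ≤ (centralizer (E₀ : Set G)).relIndex X := by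
      refine relIndex_le_of_le_left ?_ index_ne_zero_of_finite
      exact centralizer_le (show (A₀ : Set G) ⊆ E₀ from fun y hy => (le_sup_left : A₀ ≤ E₀) hy)
    have h4 := hMx.thom (hXE.trans hx.EO) fun x hxX => hx.Esq x (hXE hxX)
    have h5 := ((h3.trans h4).trans h1).trans h2
    have hsup := sup_of_relIndex_le (X := X) (N := V) (C := centralizer (A₀ : Set G)) le_sup_left hXc
      (h5.trans (no A₀ hA₀Q hA₀sq))
    have h6 : (centralizer (A₀ : Set G)).relIndex V ≤ (centralizer (A₀ : Set G)).relIndex X :=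
      relIndex_le_of_le_right le_sup_left index_ne_zero_of_finite
    have hrt := rt A₀ hA₀Q hA₀sq (h6.trans h5)
    have hfull := hrt.full.resolve_left hcase
    -- `a` is a scalar on `R`
    obtain ⟨v, hv, hv1⟩ := M.sur ![0, 1]
    have hvR : v ∉ R := fun h => by
      have := ((M.line v).1 h).2
      rw [hv1] at this
      exact one_ne_zero this
    have hvX : a * v * a⁻¹ ∈ X := le_sup_right (a := V) (le_sup_left (a := Va) ⟨v, hv, rfl⟩)
    obtain ⟨v', hv', c, hc, hvc⟩ := OM.KTwo.exists_mul_of_mem_sup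
      (F := V) (N := X ⊓ centralizer (A₀ : Set G)) (fun x hxN => by
        rw [mem_normalizer_iff]
        intro y
        have e1 : ∀ y ∈ V, x * y * x⁻¹ = y := fun y hy => by
          rw [hx.ecomm (hXE hxN.1) (VE hy), mul_inv_cancel_right]
        constructor
        · intro hy
          rw [e1 y hy]; exact hy
        · intro hy
          have h7 : x⁻¹ * (x * y * x⁻¹) * x = x * y * x⁻¹ := by
            rw [mul_assoc, ← hx.ecomm (hXE hxN.1) (VE hy), inv_mul_cancel_left]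
          have h8 : y = x⁻¹ * (x * y * x⁻¹) * x := by group
          rw [h8, h7]; exact hy)
      (hsup hvX)
    refine hne (M.scal (l := e v' 1) ha2 (fun t w hw hwt => ?_) hu)
    obtain ⟨b, hb, hbv⟩ := (hfull v hv hvR).1 w hw
    obtain ⟨s, hs⟩ := M.rt_of T2 (QT (hA₀Q hb)) fun x hxR => hrt.fixZ b hb x hxR
    have hst : s = t := by
      have h7 := hs v hv
      have h8 : b * v * b⁻¹ = w * v := mul_inv_eq_iff_eq_mul.1 hbv
      rw [h8, M.mul w (M.RV hw) v hv, hwt, hv1] at h7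
      have := congrFun h7 0
      simpa using this.symm
    have h7 : b * (a * v * a⁻¹) * b⁻¹ = (a * w * a⁻¹) * (a * v * a⁻¹) := by
      rw [hact b hb.1 v]
      have h8 : b * v * b⁻¹ = w * v := mul_inv_eq_iff_eq_mul.1 hbv
      rw [h8]; group
    have hbc : b * c = c * b := mem_centralizer_iff.1 hc.2 b hb
    have h8 : b * (a * v * a⁻¹) * b⁻¹ = (b * v' * b⁻¹) * c := by
      rw [hvc]
      have h9 : c * b⁻¹ = b⁻¹ * c := by
        calc c * b⁻¹ = b⁻¹ * (b * c) * b⁻¹ := by group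
          _ = b⁻¹ * (c * b) * b⁻¹ := by rw [hbc]
          _ = b⁻¹ * c := by group
      calc b * (v' * c) * b⁻¹ = b * v' * (c * b⁻¹) := by group
        _ = (b * v' * b⁻¹) * c := by rw [h9]; group
    have h9 : a * w * a⁻¹ = (b * v' * b⁻¹) * v'⁻¹ := by
      rw [h7, hvc] at h8
      have h10 : a * w * a⁻¹ * v' = b * v' * b⁻¹ := by
        apply mul_right_cancel (b := c)
        rw [mul_assoc]; exact h8
      rw [← h10, mul_inv_cancel_right]
    have hbv' := M.conj_mem (QT (hA₀Q hb)) hv'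
    have hm : b * v' * b⁻¹ * v'⁻¹ ∈ V := mul_mem hbv' (inv_mem hv')
    have h10 := M.mul _ hm v' hv'
    rw [inv_mul_cancel_right, hs v' hv'] at h10
    have h11 : e (b * v' * b⁻¹ * v'⁻¹) = ![e v' 1 * t, 0] := by
      rw [eq_sub_of_add_eq h10.symm, hst]
      funext i
      fin_cases i
      · change e v' 0 + t * e v' 1 - e v' 0 = e v' 1 * t
        ring
      · change e v' 1 - e v' 1 = 0
        ring
    rw [h9]
    exact ⟨(M.line _).2 ⟨hm, by rw [h11]; rfl⟩, h11⟩

/-- **EXCHANGE** -/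
theorem exch_all (hx : Ex O Q P E U) (TP : T ≤ P) (QT : Q ≤ T) (T2 : IsPGroup 2 T) (M : MV T V R e) (VE : V ≤ E)
    (no : ∀ A₀ : Subgroup G, A₀ ≤ Q → (∀ x ∈ A₀, x ^ 2 = 1) →
      (centralizer (V : Set G)).relIndex A₀ ≤ (centralizer (A₀ : Set G)).relIndex V)
    (rt : ∀ A₀ : Subgroup G, A₀ ≤ Q → (∀ x ∈ A₀, x ^ 2 = 1) →
      (centralizer (A₀ : Set G)).relIndex V ≤ (centralizer (V : Set G)).relIndex A₀ → RootOn A₀ V R)
    (hA : Mx O A) (hex : (centralizer (U : Set G)).relIndex A ≤ (centralizer (A : Set G)).relIndex U) {r u a : G}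
    (hr : r ∈ P) (hu : u ∈ R) (ha : a ∈ A) (hne : a * (r * u * r⁻¹) * a⁻¹ ≠ r * u * r⁻¹) :
    ∀ g ∈ Q, ∀ x ∈ V, g * x = x * g := by
  have hP : cj r⁻¹ P = P := cj_eq_of_mem_normalizer (Subgroup.le_normalizer (inv_mem hr))
  have hE : cj r⁻¹ E = E := cj_eq_of_mem_normalizer (hx.RE (inv_mem hr))
  have hU : cj r⁻¹ U = U := cj_eq_of_mem_normalizer (hx.RU (inv_mem hr))
  have hQ : cj r⁻¹ Q = Q := cj_eq_of_mem_normalizer (hx.nQ (inv_mem hr))
  have hx' : Ex (cj r⁻¹ O) Q P E U := by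
    refine ⟨?_, hx.Esq, hx.RE, hx.UE, hx.RU, ?_, hx.nQ, hx.QU, ?_⟩
    · rw [← hE]; exact cj_mono _ hx.EO
    · rw [← hP]; exact cj_mono _ hx.OR
    · intro g hg hgU
      rw [mem_cj, inv_inv] at hg
      have h1 : r * g * r⁻¹ ∈ Q := by
        refine hx.OQ _ hg fun x hxU => ?_
        have h2 : r⁻¹ * x * r ∈ U := by
          have := (mem_normalizer_iff.1 (hx.RU (inv_mem hr)) x).1 hxU
          rwa [inv_inv] at this
        have h3 := hgU _ h2
        calc r * g * r⁻¹ * x = r * (g * (r⁻¹ * x * r)) * r⁻¹ := by group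
          _ = r * ((r⁻¹ * x * r) * g) * r⁻¹ := by rw [h3]
          _ = x * (r * g * r⁻¹) := by group
      have h2 := (mem_normalizer_iff.1 (hx.nQ (inv_mem hr)) _).1 h1
      have e1 : r⁻¹ * (r * g * r⁻¹) * r⁻¹⁻¹ = g := by group
      rwa [e1] at h2
  have hA' : Mx (cj r⁻¹ O) (cj r⁻¹ A) := by
    refine ⟨cj_mono _ hA.le, ?_, fun X hX hX2 => ?_⟩
    · rintro _ ⟨x, hxA, rfl⟩
      change (r⁻¹ * x * r⁻¹⁻¹) ^ 2 = 1
      rw [conj_pow, hA.sq x hxA, mul_one, mul_inv_cancel]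
    · have h1 : cj r X ≤ O := by
        have := cj_mono r hX
        rwa [cj_cj_inv] at this
      have h2 := hA.max (cj r X) h1 (by
        rintro _ ⟨x, hxX, rfl⟩
        change (r * x * r⁻¹) ^ 2 = 1
        rw [conj_pow, hX2 x hxX, mul_one, mul_inv_cancel])
      rwa [card_cj, ← card_cj r⁻¹ A] at h2
  have hex' : (centralizer (U : Set G)).relIndex (cj r⁻¹ A) ≤ (centralizer (cj r⁻¹ A : Set G)).relIndex U := by
    have key : ∀ H K : Subgroup G, (cj r⁻¹ H).relIndex (cj r⁻¹ K) = H.relIndex K := by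
      intro H K
      have h1 := card_cj r⁻¹ K
      have h2 := card_cj r⁻¹ (H ⊓ K)
      rw [cj_inf] at h2
      have h3 : ∀ H K : Subgroup G, H.relIndex K * Nat.card ↥(H ⊓ K) = Nat.card K := by
        intro H K
        have := relIndex_mul_relIndex (⊥ : Subgroup G) (H ⊓ K) K bot_le inf_le_right
        rw [relIndex_bot_left, relIndex_bot_left, inf_relIndex_right, mul_comm] at this
        exact this
      have h4 := h3 H K
      have h5 := h3 (cj r⁻¹ H) (cj r⁻¹ K)
      rw [h1, h2, ← h4] at h5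
      exact Nat.eq_of_mul_eq_mul_right Nat.card_pos h5
    have h1 : centralizer (U : Set G) = cj r⁻¹ (centralizer (U : Set G)) := by
      rw [cj_centralizer, hU]
    have h2 : centralizer (cj r⁻¹ A : Set G) = cj r⁻¹ (centralizer (A : Set G)) := by
      rw [cj_centralizer]
    rw [h2]
    conv_lhs => rw [h1]
    conv_rhs => rw [← hU]
    rw [key, key]
    exact hex
  refine exch_one hx' TP QT T2 M VE no rt hA' hex' (a := r⁻¹ * a * r) hu ?_ ?_
  · exact ⟨a, ha, by change r⁻¹ * a * r⁻¹⁻¹ = _; rw [inv_inv]⟩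
  · intro h1
    apply hne
    calc a * (r * u * r⁻¹) * a⁻¹ = r * (r⁻¹ * a * r * u * (r⁻¹ * a * r)⁻¹) * r⁻¹ := by group
      _ = r * u * r⁻¹ := by rw [h1]

end Cfsg.Agent.Omega.NOThreeL.RWide.ParA
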