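import Cfsg.Agent.Omega.NOThreeL.RWide.PermOne

/-!
# `par` over `T`, the active case (helper506 #27090): [P] D-PURE

`W` elementary abelian in `O`, `V k ≤ W` natural modules with root lines `R k` on which every member of `AA O` acts
trivially or as the full root group.  A member of `AA O` which moves `V j`, with `|A ⊓ C(W)|` maximal among those,
moves only the `V k` with `R k = R j` (`PureIn.line_eq`, `PureIn.exists_pure`).
-/

set_option autoImplicit false
set_option linter.unusedSectionVars false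

namespace Cfsg.Agent.Omega.NOThreeL.RWide.ParA

open Subgroup Cfsg Cfsg.Agent.ZN Cfsg.Agent.ZN.ChoiceBase Cfsg.Agent.MinSimple.MinParabolic
open Cfsg.Agent.PLocal.Timmesfeld (card_mul_card_le)
open scoped commutatorElement

universe u

variable {G : Type u} [Group G] {κ : Type*}

section root

variable {A V Z : Subgroup G} (h : RootOn A V Z)
include h

theorem root_full (hm : ¬ A ≤ centralizer (V : Set G)) : ∀ v ∈ V, v ∉ Z →
    (∀ z ∈ Z, ∃ f ∈ A, f * v * f⁻¹ * v⁻¹ = z) ∧ ∀ f ∈ A, f * v = v * f → f ∈ centralizer (V : Set G) :=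
  h.full.resolve_left hm

/-- a vector centralised by `A` lies on the line -/
theorem root_mem (hm : ¬ A ≤ centralizer (V : Set G)) (hne : Z ≠ ⊥) : ∀ x ∈ V, (∀ a ∈ A, a * x = x * a) → x ∈ Z := by
  intro x hx hc
  by_contra hxZ
  obtain ⟨z, hz, hz1⟩ : ∃ z ∈ Z, z ≠ 1 := by
    by_contra hc'
    push Not at hc'
    exact hne ((Subgroup.eq_bot_iff_forall _).2 hc')
  obtain ⟨f, hf, e⟩ := (root_full h hm x hx hxZ).1 z hz
  apply hz1
  rw [← e, hc f hf, mul_inv_cancel_right, mul_inv_cancel]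

/-- `|A| ≤ |Z| |C_A(V)|` -/
theorem root_card [Finite G] (hm : ¬ A ≤ centralizer (V : Set G)) {v : G} (hv : v ∈ V) (hvZ : v ∉ Z) :
    Nat.card A ≤ Nat.card Z * Nat.card ↥(A ⊓ centralizer (V : Set G)) := by
  have hfull := root_full h hm
  have h1 := (hfull v hv hvZ).1
  choose s hs hs' using h1
  have hcomm : ∀ a : A, (a : G) * v * (a : G)⁻¹ * v⁻¹ ∈ Z := fun a => h.comm a a.2 v hv
  let φ : A → Z × ↥(A ⊓ centralizer (V : Set G)) := fun a =>
    (⟨(a : G) * v * (a : G)⁻¹ * v⁻¹, hcomm a⟩, ⟨(s _ (hcomm a))⁻¹ * a, by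
      have h1 : (s _ (hcomm a))⁻¹ * (a : G) ∈ A := A.mul_mem (A.inv_mem (hs _ _)) a.2
      refine Subgroup.mem_inf.2 ⟨h1, (hfull v hv hvZ).2 _ h1 ?_⟩
      have h2 := hs' _ (hcomm a)
      set t := s _ (hcomm a) with ht
      have h3 : t * v * t⁻¹ = (a : G) * v * (a : G)⁻¹ := mul_right_cancel h2
      calc t⁻¹ * (a : G) * v = t⁻¹ * ((a : G) * v * (a : G)⁻¹) * a := by group
        _ = t⁻¹ * (t * v * t⁻¹) * a := by rw [h3]
        _ = v * (t⁻¹ * a) := by group⟩)
  have hφ : Function.Injective φ := by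
    intro a b hab
    have h2 : (⟨(a : G) * v * (a : G)⁻¹ * v⁻¹, hcomm a⟩ : Z) = ⟨(b : G) * v * (b : G)⁻¹ * v⁻¹, hcomm b⟩ :=
      congrArg Prod.fst hab
    have h3 : (a : G) * v * (a : G)⁻¹ * v⁻¹ = (b : G) * v * (b : G)⁻¹ * v⁻¹ := congrArg Subtype.val h2
    have h4 : (s _ (hcomm a))⁻¹ * (a : G) = (s _ (hcomm b))⁻¹ * b :=
      congrArg Subtype.val (congrArg Prod.snd hab)
    have h5 : s _ (hcomm a) = s _ (hcomm b) := by
      congr 1
    rw [h5] at h4
    exact Subtype.ext (mul_left_cancel h4)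
  have h6 := Nat.card_le_card_of_injective φ hφ
  rwa [Nat.card_prod] at h6

/-- `|X| |Z| ≤ |X V|` for `X ≤ A` -/
theorem root_prod [Finite G] (hel : IsElementaryAbelian 2 A) (hm : ¬ A ≤ centralizer (V : Set G)) (hne : Z ≠ ⊥)
    (hcard : Nat.card V = Nat.card Z ^ 2) {X : Subgroup G} (hX : X ≤ A) :
    Nat.card X * Nat.card Z ≤ Nat.card ↥(X ⊔ V : Subgroup G) := by
  have h0 : Nat.card ↥(X ⊓ V : Subgroup G) ≤ Nat.card Z := by
    refine Nat.card_mono (Set.toFinite _) ?_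
    rintro x ⟨hx, hx'⟩
    exact root_mem h hm hne x hx' fun a ha => ea_comm hel ha (hX hx)
  have h1 := card_mul_card_le (B₁ := X) (B₂ := V) (B₃ := X ⊔ V) le_sup_left le_sup_right
  have h2 : Nat.card X * Nat.card V ≤ Nat.card Z * Nat.card ↥(X ⊔ V : Subgroup G) :=
    h1.trans (Nat.mul_le_mul_right _ h0)
  rw [hcard] at h2
  have h3 : 0 < Nat.card Z := Nat.card_pos
  refine Nat.le_of_mul_le_mul_left ?_ h3
  calc Nat.card Z * (Nat.card X * Nat.card Z) = Nat.card X * Nat.card Z ^ 2 := by ring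
    _ ≤ _ := h2

end root

/-- the input of D-PURE -/
structure PureIn (O W : Subgroup G) (V R : κ → Subgroup G) : Prop where
  Wel : IsElementaryAbelian 2 W
  WO : W ≤ O
  VW : ∀ k, V k ≤ W
  RV : ∀ k, R k ≤ V k
  ne : ∀ k, R k ≠ ⊥
  card : ∀ k, Nat.card (V k) = Nat.card (R k) ^ 2
  root : ∀ A ∈ AA O, ∀ k, RootOn A (V k) (R k)

namespace PureIn

variable {O W : Subgroup G} {V R : κ → Subgroup G} (h : PureIn O W V R)
include h

theorem one_lt [Finite G] (k : κ) : 1 < Nat.card (R k) := by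
  rcases Nat.lt_or_ge 1 (Nat.card (R k)) with h1 | h1
  · exact h1
  · exact absurd ((Subgroup.card_le_one_iff_eq_bot _).1 h1) (h.ne k)

theorem exists_not [Finite G] (k : κ) : ∃ v ∈ V k, v ∉ R k := by
  by_contra hc
  push Not at hc
  have h1 := Nat.card_mono (Set.toFinite _) (SetLike.coe_subset_coe.2 (show V k ≤ R k from hc))
  have h2 := h.card k
  have h3 := h.one_lt k
  have h4 : Nat.card (V k) ≤ Nat.card (R k) := h1
  rw [h2] at h4
  nlinarith

theorem Vel (k : κ) : IsElementaryAbelian 2 (V k) :=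
  ea_mk (fun _ ha _ hb => ea_comm h.Wel (h.VW k ha) (h.VW k hb)) fun _ ha => ea_sq h.Wel (h.VW k ha)

/-- the exchange `C_A(V k) V k ∈ AA O` -/
theorem exch [Finite G] {A : Subgroup G} (hA : A ∈ AA O) {k : κ} (hk : ¬ A ≤ centralizer (V k : Set G)) :
    (A ⊓ centralizer (V k : Set G)) ⊔ V k ∈ AA O ∧ Nat.card ↥(A ⊓ centralizer (W : Set G)) <
      Nat.card ↥(((A ⊓ centralizer (V k : Set G)) ⊔ V k : Subgroup G) ⊓ centralizer (W : Set G)) := by
  obtain ⟨v, hv, hvZ⟩ := h.exists_not k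
  have hr := h.root A hA k
  have hi := root_card hr hk hv hvZ
  have hq := h.one_lt k
  have hXel : IsElementaryAbelian 2 (A ⊓ centralizer (V k : Set G) : Subgroup G) :=
    ea_mk (fun a ha b hb => ea_comm hA.1 ha.1 hb.1) fun a ha => ea_sq hA.1 ha.1
  have hA'el : IsElementaryAbelian 2 ((A ⊓ centralizer (V k : Set G)) ⊔ V k : Subgroup G) :=
    ea_sup hXel (h.Vel k) fun a ha x hx => (mem_centralizer_iff.1 ha.2 x hx).symm
  have hA'O : (A ⊓ centralizer (V k : Set G)) ⊔ V k ≤ O :=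
    sup_le (inf_le_left.trans hA.2.1) ((h.VW k).trans h.WO)
  have hA'AA : (A ⊓ centralizer (V k : Set G)) ⊔ V k ∈ AA O := by
    refine ⟨hA'el, hA'O, fun B hB hBO => (hA.2.2 B hB hBO).trans ?_⟩
    have h1 := root_prod hr hA.1 hk (h.ne k) (h.card k) (X := A ⊓ centralizer (V k : Set G)) inf_le_left
    rw [mul_comm] at h1
    exact hi.trans h1
  refine ⟨hA'AA, ?_⟩
  have hVC : V k ≤ centralizer (W : Set G) := fun x hx =>
    mem_centralizer_iff.2 fun w hw => ea_comm h.Wel hw (h.VW k hx)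
  have h1 := root_prod hr hA.1 hk (h.ne k) (h.card k) (X := A ⊓ centralizer (W : Set G)) inf_le_left
  have h2 : (A ⊓ centralizer (W : Set G)) ⊔ V k ≤
      ((A ⊓ centralizer (V k : Set G)) ⊔ V k) ⊓ centralizer (W : Set G) :=
    le_inf (sup_le_sup_right (inf_le_inf_left _ (centralizer_le (SetLike.coe_subset_coe.2 (h.VW k)))) _)
      (sup_le inf_le_right hVC)
  have h3 := Nat.card_mono (Set.toFinite _) (SetLike.coe_subset_coe.2 h2)
  have h4 : 0 < Nat.card ↥(A ⊓ centralizer (W : Set G)) := Nat.card_pos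
  refine lt_of_lt_of_le ?_ (h1.trans h3)
  nlinarith

/-- **D-PURE**: an extremal `A ∈ AA O` moving `V j` moves only the `V k` with the line `R j`. -/
theorem line_eq [Finite G] {A : Subgroup G} (hA : A ∈ AA O) {j : κ} (hj : ¬ A ≤ centralizer (V j : Set G))
    (hmax : ∀ B ∈ AA O, ¬ B ≤ centralizer (V j : Set G) →
      Nat.card ↥(B ⊓ centralizer (W : Set G)) ≤ Nat.card ↥(A ⊓ centralizer (W : Set G)))
    {k : κ} (hk : ¬ A ≤ centralizer (V k : Set G)) : R k = R j := by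
  obtain ⟨hAA', hlt⟩ := h.exch hA hk
  -- `C_A(V k)` centralises `V j`
  have hB : A ⊓ centralizer (V k : Set G) ≤ centralizer (V j : Set G) := by
    refine le_sup_left.trans (?_ : (A ⊓ centralizer (V k : Set G)) ⊔ V k ≤ _)
    by_contra hc
    exact absurd (hmax _ hAA' hc) (not_le.2 hlt)
  obtain ⟨u, hu, huZ⟩ := h.exists_not k
  have hrk := h.root A hA k
  have hrj := h.root A hA j
  have hi := root_card hrk hk hu huZ
  set X : Subgroup G := V k ⊔ V j with hX
  have hXW : X ≤ W := sup_le (h.VW k) (h.VW j)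
  have hXel : IsElementaryAbelian 2 X :=
    ea_mk (fun _ ha _ hb => ea_comm h.Wel (hXW ha) (hXW hb)) fun _ ha => ea_sq h.Wel (hXW ha)
  have h1 := (bo_of_AA hA hXel (hXW.trans h.WO)).1 (A ⊓ centralizer (V k : Set G)) inf_le_left
  have h2 : X ⊓ centralizer ((A ⊓ centralizer (V k : Set G) : Subgroup G) : Set G) = X :=
    inf_eq_left.2 (sup_le (le_centralizer_iff.1 inf_le_right) (le_centralizer_iff.1 hB))
  rw [h2] at h1
  have h3 : Nat.card ↥X ≤ Nat.card (R k) * Nat.card ↥(X ⊓ centralizer (A : Set G)) := by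
    have h4 : 0 < Nat.card ↥(A ⊓ centralizer (V k : Set G)) := Nat.card_pos
    refine Nat.le_of_mul_le_mul_left (h1.trans ?_) h4
    calc Nat.card A * Nat.card ↥(X ⊓ centralizer (A : Set G))
        ≤ Nat.card (R k) * Nat.card ↥(A ⊓ centralizer (V k : Set G)) * Nat.card ↥(X ⊓ centralizer (A : Set G)) :=
          Nat.mul_le_mul_right _ hi
      _ = _ := by ring
  have h5 := card_mul_card_le (B₁ := V k) (B₂ := X ⊓ centralizer (A : Set G))
    (B₃ := V k ⊔ (X ⊓ centralizer (A : Set G))) le_sup_left le_sup_right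
  have h6 : Nat.card ↥(V k ⊓ (X ⊓ centralizer (A : Set G)) : Subgroup G) ≤ Nat.card (R k) := by
    refine Nat.card_mono (Set.toFinite _) ?_
    rintro x ⟨hx, -, hx'⟩
    exact root_mem hrk hk (h.ne k) x hx fun a ha => mem_centralizer_iff.1 hx' a ha
  have h7 : V k ⊔ (X ⊓ centralizer (A : Set G)) ≤ X := sup_le le_sup_left inf_le_left
  have h8 : V k ⊔ (X ⊓ centralizer (A : Set G)) = X := by
    apply eq_of_le_of_card_ge h7
    have h9 : 0 < Nat.card (R k) := Nat.card_pos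
    refine Nat.le_of_mul_le_mul_left ?_ h9
    calc Nat.card (R k) * Nat.card ↥X
        ≤ Nat.card (R k) * (Nat.card (R k) * Nat.card ↥(X ⊓ centralizer (A : Set G))) := Nat.mul_le_mul_left _ h3
      _ = Nat.card (V k) * Nat.card ↥(X ⊓ centralizer (A : Set G)) := by rw [h.card k]; ring
      _ ≤ Nat.card ↥(V k ⊓ (X ⊓ centralizer (A : Set G)) : Subgroup G) *
          Nat.card ↥(V k ⊔ (X ⊓ centralizer (A : Set G)) : Subgroup G) := h5
      _ ≤ _ := Nat.mul_le_mul_right _ h6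
  -- the lines
  obtain ⟨v, hv, hvZ⟩ := h.exists_not j
  obtain ⟨x, hx, c, hc, e'⟩ := NO3S.SN2.BA.mem_sup_of_comm
    (X := V k) (Y := X ⊓ centralizer (A : Set G))
    (fun x hx c hc => ea_comm h.Wel (h.VW k hx) (hXW hc.1)) (h8.ge ((le_sup_right : V j ≤ V k ⊔ V j) hv))
  have hcom : ∀ f ∈ A, f * v * f⁻¹ * v⁻¹ = f * x * f⁻¹ * x⁻¹ := by
    intro f hf
    have h3 := mem_centralizer_iff.1 hc.2 f hf
    rw [← e']
    calc f * (x * c) * f⁻¹ * (x * c)⁻¹ = f * x * (c * f⁻¹ * c⁻¹) * x⁻¹ := by group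
      _ = f * x * f⁻¹ * x⁻¹ := by
        have h5 : c * f⁻¹ * c⁻¹ = f⁻¹ := by
          calc c * f⁻¹ * c⁻¹ = f⁻¹ * (f * c) * f⁻¹ * c⁻¹ := by group
            _ = f⁻¹ * (c * f) * f⁻¹ * c⁻¹ := by rw [h3]
            _ = f⁻¹ := by group
        rw [h5]
  have hfj := root_full hrj hj v hv hvZ
  have hxZ : x ∉ R k := by
    intro hxR
    apply hj
    intro f hf
    refine hfj.2 f hf ?_
    have h1 := hcom f hf
    rw [hrk.fixZ f hf x hxR, mul_inv_cancel_right, mul_inv_cancel] at h1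
    calc f * v = (f * v * f⁻¹ * v⁻¹) * v * f := by group
      _ = v * f := by rw [h1, one_mul]
  have hfk := root_full hrk hk x hx hxZ
  apply le_antisymm
  · intro z hz
    obtain ⟨f, hf, e⟩ := hfk.1 z hz
    rw [← e, ← hcom f hf]
    exact hrj.comm f hf v hv
  · intro z hz
    obtain ⟨f, hf, e⟩ := hfj.1 z hz
    rw [← e, hcom f hf]
    exact hrk.comm f hf x hx

/-- a pure member -/
theorem exists_pure [Finite G] {j : κ} (hmv : ∃ A ∈ AA O, ¬ A ≤ centralizer (V j : Set G)) :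
    ∃ A ∈ AA O, ¬ A ≤ centralizer (V j : Set G) ∧ (∀ B ∈ AA O, ¬ B ≤ centralizer (V j : Set G) →
      Nat.card ↥(B ⊓ centralizer (W : Set G)) ≤ Nat.card ↥(A ⊓ centralizer (W : Set G))) ∧
      ∀ k, R k ≠ R j → A ≤ centralizer (V k : Set G) := by
  obtain ⟨A₀, hA₀, hm₀⟩ := hmv
  obtain ⟨A, ⟨hA1, hA2⟩, hmax⟩ := Set.exists_max_image
    {A : Subgroup G | A ∈ AA O ∧ ¬ A ≤ centralizer (V j : Set G)}
    (fun A => Nat.card ↥(A ⊓ centralizer (W : Set G))) (Set.toFinite _) ⟨A₀, hA₀, hm₀⟩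
  have hmax' : ∀ B ∈ AA O, ¬ B ≤ centralizer (V j : Set G) →
      Nat.card ↥(B ⊓ centralizer (W : Set G)) ≤ Nat.card ↥(A ⊓ centralizer (W : Set G)) :=
    fun B hB hB' => hmax B ⟨hB, hB'⟩
  refine ⟨A, hA1, hA2, hmax', fun k hk => ?_⟩
  by_contra hc
  exact hk (h.line_eq hA1 hA2 hmax' hc)

end PureIn

end Cfsg.Agent.Omega.NOThreeL.RWide.ParA
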