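import Cfsg.Agent.Omega.NOThreeL.RWide.PIn
import Cfsg.Agent.Omega.NOThreeL.RWide.TBlk
import Cfsg.Agent.Omega.NOThreeL.RWide.SemiCnt
import Cfsg.Agent.Omega.NOThreeL.RWide.PermOne

/-!
# Offenders of `T` on a natural block act as the full root group

`TBlk.NB.rootOn` : `A ≤ S` elementary abelian, normalises the natural block `N` (semilinear action allowed) and
`|N : C_N(A)| ≤ |A : C_A(N)|` ⟹ `RootOn A N l`  (`SemiCnt.semi_cnt`).
-/

set_option autoImplicit false
set_option linter.unusedSectionVars false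

namespace Cfsg.Agent.Omega.NOThreeL.RWide.ParA

open Subgroup Cfsg.Agent.ZN.ChoiceBase
open Cfsg.Agent.Omega.NOThreeL.RWide.TBlk (NB)
open Cfsg.Agent.Omega.NOThreeL.RWide.SemiCnt (Sm semi_cnt)

universe u

variable {G : Type u} [Group G]

/-- conjugation of `A` on `N` -/
def conjPerm {A N : Subgroup G} (hN : A ≤ normalizer (N : Set G)) : A →* Equiv.Perm N where
  toFun a :=
    { toFun := fun v => ⟨(a : G) * v * (a : G)⁻¹, (mem_normalizer_iff.1 (hN a.2) v).1 v.2⟩
      invFun := fun v => ⟨(a : G)⁻¹ * v * (a : G), by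
        have h := (mem_normalizer_iff.1 (inv_mem (hN a.2)) v).1 v.2
        rwa [inv_inv] at h⟩
      left_inv := fun v => Subtype.ext (by simp only; group)
      right_inv := fun v => Subtype.ext (by simp only; group) }
  map_one' := Equiv.ext fun v => Subtype.ext (by simp)
  map_mul' a b := Equiv.ext fun v => Subtype.ext (by simp [mul_assoc])

theorem conjPerm_coe {A N : Subgroup G} (hN : A ≤ normalizer (N : Set G)) (a : A) (v : N) :
    ((conjPerm hN a v : N) : G) = (a : G) * v * (a : G)⁻¹ := rfl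

section nb

variable {S E N l : Subgroup G} {F : Type} [Field F] {e : G → Fin 2 → F} (h : NB S E N l F e)
include h

theorem e_one : e 1 = 0 := by
  have h1 := h.mul 1 (one_mem _) 1 (one_mem _)
  rw [mul_one] at h1
  exact left_eq_add.1 h1

theorem e_inv {v : G} (hv : v ∈ N) : e v⁻¹ = - e v := by
  have h1 := h.mul v hv v⁻¹ (inv_mem hv)
  rw [mul_inv_cancel, e_one h] at h1
  exact (neg_eq_of_add_eq_zero_right h1.symm).symm

theorem e_inj {v w : G} (hv : v ∈ N) (hw : w ∈ N) (he : e v = e w) : v = w := by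
  have h1 : e (v * w⁻¹) = 0 := by rw [h.mul v hv w⁻¹ (inv_mem hw), e_inv h hw, he, add_neg_cancel]
  exact mul_inv_eq_one.1 (h.inj _ (mul_mem hv (inv_mem hw)) h1)

/-- the coordinates -/
noncomputable def eEquiv : N ≃ (Fin 2 → F) :=
  Equiv.ofBijective (fun v : N => e v) ⟨fun v w he => Subtype.ext (e_inj h v.2 w.2 he), fun x => by
    obtain ⟨v, hv, he⟩ := h.sur x
    exact ⟨⟨v, hv⟩, he⟩⟩

theorem eEquiv_apply (v : N) : eEquiv h v = e v := rfl

theorem e_symm (x : Fin 2 → F) : e ((eEquiv h).symm x : N) = x := (eEquiv h).apply_symm_apply x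

/-- the action in coordinates -/
noncomputable def rho {A : Subgroup G} (hN : A ≤ normalizer (N : Set G)) : A →* Equiv.Perm (Fin 2 → F) :=
  (eEquiv h).permCongrHom.toMonoidHom.comp (conjPerm hN)

theorem rho_apply {A : Subgroup G} (hN : A ≤ normalizer (N : Set G)) (a : A) (x : Fin 2 → F) :
    rho h hN a x = e ((a : G) * ((eEquiv h).symm x : N) * (a : G)⁻¹) := by
  simp only [rho, MonoidHom.comp_apply]
  rfl

theorem rho_e {A : Subgroup G} (hN : A ≤ normalizer (N : Set G)) (a : A) {v : G} (hv : v ∈ N) :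
    rho h hN a (e v) = e ((a : G) * v * (a : G)⁻¹) := by
  rw [rho_apply]
  have h1 : ((eEquiv h).symm (e v) : N) = ⟨v, hv⟩ := (eEquiv h).symm_apply_apply ⟨v, hv⟩
  rw [h1]

theorem card_N [Finite F] : Nat.card N = Nat.card F ^ 2 := by
  rw [Nat.card_congr (eEquiv h), Nat.card_fun, Nat.card_fin]

theorem card_l [Finite F] : Nat.card l = Nat.card F := by
  refine Nat.card_congr (Equiv.ofBijective (fun v : l => e v 0) ⟨?_, ?_⟩)
  · intro v w he
    have hv := (h.line v).1 v.2
    have hw := (h.line w).1 w.2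
    refine Subtype.ext (e_inj h hv.1 hw.1 ?_)
    funext i
    fin_cases i
    · exact he
    · change e v 1 = e w 1
      rw [hv.2, hw.2]
  · intro x
    obtain ⟨v, hv, he⟩ := h.sur ![x, 0]
    exact ⟨⟨v, (h.line v).2 ⟨hv, by rw [he]; rfl⟩⟩, by change e v 0 = x; rw [he]; rfl⟩

/-- **Offenders act as the full root group.** -/
theorem _root_.Cfsg.Agent.Omega.NOThreeL.RWide.TBlk.NB.rootOn [Finite G] [Finite F] [CharP F 2] {A : Subgroup G}
    (hAS : A ≤ S) (hAN : A ≤ normalizer (N : Set G)) (hA : IsElementaryAbelian 2 A)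
    (hoff : (centralizer (A : Set G)).relIndex N ≤ (centralizer (N : Set G)).relIndex A) : RootOn A N l := by
  classical
  have hsm : ∀ g : A, ∃ (σ : F ≃+* F) (a b d : F), Sm (rho h hAN g) σ a b d := by
    intro g
    obtain ⟨σ, a, b, d, hs⟩ := h.semi g (hAS g.2) (hAN g.2)
    refine ⟨σ, a, b, d, fun v => ?_⟩
    rw [rho_apply, hs _ ((eEquiv h).symm v : N).2, e_symm h]
  have h2 : ∀ (g : A) v, rho h hAN g (rho h hAN g v) = v := by
    intro g v
    have h1 : g * g = 1 := Subtype.ext (ea_sq hA g.2)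
    rw [← Equiv.Perm.mul_apply, ← map_mul, h1, map_one, Equiv.Perm.one_apply]
  obtain ⟨hle, heq⟩ := semi_cnt (ρ := rho h hAN) hsm h2
  -- cardinalities
  have hker : (rho h hAN).ker = (centralizer (N : Set G)).subgroupOf A := by
    ext g
    rw [MonoidHom.mem_ker, mem_subgroupOf, mem_centralizer_iff]
    constructor
    · intro hg v hv
      have h3 := rho_e h hAN g hv
      rw [hg, Equiv.Perm.one_apply] at h3
      have h4 := e_inj h hv ((mem_normalizer_iff.1 (hAN g.2) v).1 hv) h3
      rw [eq_mul_inv_iff_mul_eq] at h4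
      exact h4
    · intro hg
      ext x : 1
      rw [rho_apply, Equiv.Perm.one_apply]
      have h3 := hg _ ((eEquiv h).symm x : N).2
      rw [← h3, mul_inv_cancel_right, e_symm h]
  have hrange : Nat.card (rho h hAN).range = (centralizer (N : Set G)).relIndex A := by
    rw [relIndex, ← hker, ← Subgroup.index_ker]
  have hfix : Nat.card {v : Fin 2 → F // ∀ g, rho h hAN g v = v} = Nat.card ↥(N ⊓ centralizer (A : Set G)) := by
    symm
    refine Nat.card_congr (Equiv.ofBijective (fun v => ⟨e v, fun g => ?_⟩) ⟨?_, ?_⟩)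
    · rw [rho_e h hAN g v.2.1, mem_centralizer_iff.1 v.2.2 g g.2, mul_inv_cancel_right]
    · intro v w hvw
      exact Subtype.ext (e_inj h v.2.1 w.2.1 (congrArg Subtype.val hvw))
    · rintro ⟨x, hx⟩
      obtain ⟨v, hv, he⟩ := h.sur x
      refine ⟨⟨v, hv, mem_centralizer_iff.2 fun g hg => ?_⟩, Subtype.ext he⟩
      have h3 := hx ⟨g, hg⟩
      rw [← he, rho_e h hAN ⟨g, hg⟩ hv] at h3
      have h4 := e_inj h ((mem_normalizer_iff.1 (hAN hg) v).1 hv) hv h3
      rwa [mul_inv_eq_iff_eq_mul] at h4
  have hidx : (centralizer (A : Set G)).relIndex N * Nat.card ↥(N ⊓ centralizer (A : Set G)) = Nat.card F ^ 2 := by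
    rw [← card_N h, inf_comm]
    have h3 := Subgroup.card_mul_index ((centralizer (A : Set G)).subgroupOf N)
    rw [← Nat.card_congr (Subgroup.subgroupOfEquivOfLe (inf_le_right : centralizer (A : Set G) ⊓ N ≤ N)).toEquiv,
      Subgroup.inf_subgroupOf_right, relIndex, mul_comm]
    exact h3
  have hq : Nat.card (rho h hAN).range * Nat.card {v : Fin 2 → F // ∀ g, rho h hAN g v = v} = Nat.card F ^ 2 := by
    refine le_antisymm hle ?_
    rw [hrange, hfix, ← hidx]
    exact Nat.mul_le_mul_right _ hoff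
  have hline := heq hq
  choose σ a b d hS using hsm
  have hlin : ∀ (g : A) x, σ g x = x := by
    intro g x
    have h3 : ∀ x, a g * σ g x = x := by
      intro x
      have h4 := congrFun (hline g x) 0
      rw [hS g] at h4
      simpa using h4
    have h4 : a g = 1 := by simpa using h3 1
    have h5 := h3 x
    rwa [h4, one_mul] at h5
  have hroot : ∀ (g : A) v, rho h hAN g v = ![v 0 + b g * v 1, v 1] := fun g => (hS g).lin (h2 g) (hlin g)
  have hconj : ∀ (g : A) {v : G}, v ∈ N → e ((g : G) * v * (g : G)⁻¹) = ![e v 0 + b g * e v 1, e v 1] := by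
    intro g v hv
    rw [← rho_e h hAN g hv, hroot]
  have hmem : ∀ (g : A) {v : G}, v ∈ N → (g : G) * v * (g : G)⁻¹ ∈ N := fun g v hv =>
    (mem_normalizer_iff.1 (hAN g.2) v).1 hv
  have hcomm : ∀ (g : A) {v : G}, v ∈ N → e ((g : G) * v * (g : G)⁻¹ * v⁻¹) = ![b g * e v 1, 0] := by
    intro g v hv
    rw [h.mul _ (hmem g hv) _ (inv_mem hv), hconj g hv, e_inv h hv]
    funext i
    fin_cases i <;> simp
  refine ⟨hAN, ?_, ?_, ?_⟩
  · intro f hf z hz
    have hz' := (h.line z).1 hz
    have h3 : e (f * z * f⁻¹) = e z := by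
      rw [hconj ⟨f, hf⟩ hz'.1]
      funext i
      fin_cases i <;> simp [hz'.2]
    have h4 := e_inj h (hmem ⟨f, hf⟩ hz'.1) hz'.1 h3
    exact mul_inv_eq_iff_eq_mul.1 h4
  · intro f hf v hv
    refine (h.line _).2 ⟨mul_mem (hmem ⟨f, hf⟩ hv) (inv_mem hv), ?_⟩
    rw [hcomm ⟨f, hf⟩ hv]
    rfl
  · by_cases hb : ∀ g : A, b g = 0
    · left
      intro f hf
      refine mem_centralizer_iff.2 fun v hv => ?_
      have h3 : e (f * v * f⁻¹) = e v := by
        rw [hconj ⟨f, hf⟩ hv]
        funext i
        fin_cases i <;> simp [hb]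
      have h4 := e_inj h (hmem ⟨f, hf⟩ hv) hv h3
      exact (mul_inv_eq_iff_eq_mul.1 h4).symm
    · right
      push Not at hb
      obtain ⟨g₀, hg₀⟩ := hb
      -- the fixed points are the line
      have hfix' : Nat.card {v : Fin 2 → F // ∀ g, rho h hAN g v = v} = Nat.card F := by
        refine Nat.card_congr (Equiv.ofBijective (fun v => v.1 0) ⟨?_, ?_⟩)
        · rintro ⟨v, hv⟩ ⟨w, hw⟩ hvw
          have key : ∀ v : Fin 2 → F, (∀ g, rho h hAN g v = v) → v 1 = 0 := by
            intro v hv
            have h3 := congrFun (hv g₀) 0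
            rw [hroot g₀ v] at h3
            have h4 : b g₀ * v 1 = 0 := by simpa using h3
            exact (mul_eq_zero.1 h4).resolve_left hg₀
          apply Subtype.ext
          funext i
          fin_cases i
          · exact hvw
          · change v 1 = w 1
            rw [key v hv, key w hw]
        · intro x
          refine ⟨⟨![x, 0], fun g => ?_⟩, rfl⟩
          exact hline g x
      have hF : 0 < Nat.card F := Nat.card_pos
      have hr : Nat.card (rho h hAN).range = Nat.card F := by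
        rw [hfix', pow_two] at hq
        exact Nat.eq_of_mul_eq_mul_right hF hq
      -- `g ↦ b g` is onto
      have hsur : ∀ c : F, ∃ g : A, b g = c := by
        have hinj : Function.Injective (fun r : (rho h hAN).range => (r.1 ![0, 1]) 0) := by
          rintro ⟨r, g, rfl⟩ ⟨r', g', rfl⟩ he
          have he' : b g = b g' := by simpa [hroot] using he
          apply Subtype.ext
          apply Equiv.ext
          intro v
          change rho h hAN g v = rho h hAN g' v
          rw [hroot, hroot, he']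
        have hfin : Finite (rho h hAN).range := inferInstance
        have hbij : Function.Bijective (fun r : (rho h hAN).range => (r.1 ![0, 1]) 0) :=
          (Nat.bijective_iff_injective_and_card _).2 ⟨hinj, hr⟩
        intro c
        obtain ⟨⟨r, g, rfl⟩, hc⟩ := hbij.2 c
        exact ⟨g, by simpa [hroot] using hc⟩
      intro v hv hvl
      have hv1 : e v 1 ≠ 0 := fun h0 => hvl ((h.line v).2 ⟨hv, h0⟩)
      refine ⟨fun z hz => ?_, fun f hf hfv => ?_⟩
      · have hz' := (h.line z).1 hz
        obtain ⟨g, hg⟩ := hsur (e z 0 / e v 1)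
        refine ⟨g, g.2, e_inj h (mul_mem (hmem g hv) (inv_mem hv)) hz'.1 ?_⟩
        rw [hcomm g hv, hg]
        funext i
        fin_cases i
        · simp [div_mul_cancel₀ _ hv1]
        · simp [hz'.2]
      · have h3 : f * v * f⁻¹ * v⁻¹ = 1 := by rw [hfv, mul_inv_cancel_right, mul_inv_cancel]
        have h4 := hcomm ⟨f, hf⟩ hv
        rw [h3, e_one h] at h4
        have h5 : b ⟨f, hf⟩ * e v 1 = 0 := by simpa using (congrFun h4 0).symm
        have h6 : b ⟨f, hf⟩ = 0 := (mul_eq_zero.1 h5).resolve_right hv1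
        refine mem_centralizer_iff.2 fun w hw => ?_
        have h7 : e (f * w * f⁻¹) = e w := by
          rw [hconj ⟨f, hf⟩ hw, h6]
          funext i
          fin_cases i <;> simp
        have h8 := e_inj h (hmem ⟨f, hf⟩ hw) hw h7
        exact (mul_inv_eq_iff_eq_mul.1 h8).symm

end nb

end Cfsg.Agent.Omega.NOThreeL.RWide.ParA
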