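import Cfsg.Agent.Omega.NOThreeL.RWide.ParA.ExchB
import Cfsg.Agent.Omega.NOThreeL.RWide.ParA.RootT
import Cfsg.Agent.Omega.NOThreeL.RWide.ParA.Pure
import Cfsg.Agent.Omega.NOThreeL.RWide.ParT.Loc
import Cfsg.Agent.Omega.NOThreeL.RWide.TFm
import Cfsg.Agent.Omega.EDel.Bx.AOPar

/-!
# `par` over `T`, the active case: [X] EXCHANGE over the frame `Typ0`

* `NB.no_over` : `|A : C_A(N)| ≤ |N : C_N(A)|` for elementary abelian `A ≤ N_S(N)`;
* `Typ0.ex_of` : `Ex (O₂(C_G(Ω₁Z(T)))) (O₂(P)) P E_ij (zl T P)`;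
* **`Typ0.exch`** : if some `A` of maximal order in `O₂(C_G(Ω₁Z(T)))` is not in `O₂(P)`, then `O₂(P)` centralises `V j`.
-/

set_option autoImplicit false
set_option linter.unusedSectionVars false

namespace Cfsg.Agent.Omega.NOThreeL.RWide.ParA

open Subgroup Cfsg Cfsg.Agent.ZN.ChoiceBase
open Cfsg.Agent.ZN (zc zl o2)
open Cfsg.Agent.ZN.ChoiceSit (Syl o2_le_syl syl_not_dvd)
open Cfsg.Agent.Omega.NOThreeL.RWide.TBlk (NB)
open Cfsg.Agent.Omega.NOThreeL.RWide.ParT.Loc (Typ0)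
open Cfsg.Agent.Omega.KL.TwoS (Mx)
open Cfsg.Agent.Omega.EDel.ThmU (XF)
open Cfsg.Agent.Omega.EDel.AOF (Ex)
open Cfsg.Agent.MinSimple.MinParabolic (IsMinPar)
open Cfsg.Agent.MinSimple.VModule (le_normalizer_zl)
open Cfsg.Agent.Omega.SQ1.FFOne (mem_norm_of)
open Cfsg.Agent.Omega.NO3S.EThree.ExactA (eab_iff)

universe u v

variable {G : Type u} [Group G]

/-- no over-offender on a natural block -/
theorem _root_.Cfsg.Agent.Omega.NOThreeL.RWide.TBlk.NB.no_over [Finite G] {S E N l : Subgroup G} {F : Type} [Field F]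
    [Finite F] [CharP F 2] {e : G → Fin 2 → F} (h : NB S E N l F e) {A : Subgroup G} (hAS : A ≤ S)
    (hAN : A ≤ normalizer (N : Set G)) (hA : IsElementaryAbelian 2 A) :
    (centralizer (N : Set G)).relIndex A ≤ (centralizer (A : Set G)).relIndex N := by
  by_contra hcon
  push Not at hcon
  have hr := h.rootOn hAS hAN hA hcon.le
  have hm : ¬ A ≤ centralizer (N : Set G) := by
    intro h1
    rw [relIndex_eq_one.2 h1] at hcon
    have h2 : 0 < (centralizer (A : Set G)).relIndex N := Nat.pos_of_ne_zero index_ne_zero_of_finite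
    omega
  have hlne : l ≠ ⊥ := TFmNB.l_ne_of h
  obtain ⟨v, hv, hv1⟩ := h.sur ![0, 1]
  have hvl : v ∉ l := fun h1 => by
    have h2 := ((h.line v).1 h1).2
    rw [hv1] at h2
    exact one_ne_zero h2
  have h1 := root_card hr hm hv hvl
  -- `C_N(A) ≤ l`
  have h2 : Nat.card ↥(N ⊓ centralizer (A : Set G)) ≤ Nat.card l :=
    Subgroup.card_le_of_le fun x hx => root_mem hr hm hlne x hx.1 fun a ha => mem_centralizer_iff.1 hx.2 a ha
  have hcN := card_N h
  have hcl := card_l h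
  have key : ∀ H K : Subgroup G, Nat.card ↥(K ⊓ H) * H.relIndex K = Nat.card K := fun H K =>
    (Cfsg.Agent.Omega.KL.TwoS.relIndex_card (A := K) (C := H)).symm
  have h3 := key (centralizer (N : Set G)) A
  have h4 := key (centralizer (A : Set G)) N
  have p1 : 0 < Nat.card ↥(A ⊓ centralizer (N : Set G)) := Nat.card_pos
  have p2 : 0 < Nat.card l := Nat.card_pos
  have h5 : (centralizer (N : Set G)).relIndex A ≤ Nat.card l := by
    refine Nat.le_of_mul_le_mul_left ?_ p1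
    rw [h3, mul_comm]
    exact h1
  have h6 : Nat.card l ≤ (centralizer (A : Set G)).relIndex N := by
    refine Nat.le_of_mul_le_mul_left ?_ p2
    calc Nat.card l * Nat.card l = Nat.card N := by rw [hcN, hcl, pow_two]
      _ = Nat.card ↥(N ⊓ centralizer (A : Set G)) * (centralizer (A : Set G)).relIndex N := h4.symm
      _ ≤ Nat.card l * (centralizer (A : Set G)).relIndex N := Nat.mul_le_mul_right _ h2
  omega

section typ0

variable [Finite G] {ι : Type v} {T : Subgroup G} {F V : ι → Subgroup G} (h : Typ0 T F V)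
include h

theorem _root_.Cfsg.Agent.Omega.NOThreeL.RWide.ParT.Loc.Typ0.ex_of (hc : IsCharacteristicTwoType G) {P : Subgroup G}
    {i j : ι} (hij : i ≠ j) (hP : IsMinPar T P) (hPY : P ≤ YY F j) (hmv : ¬ P ≤ centralizer (F j : Set G)) :
    Ex (o2 (centralizer (zc T : Set G))) (o2 P) P (XS (zc T) (XF F i j)) (zl T P) := by
  have hM := EDel.AOF.minH_of hP (h.syl_of' hP.le hPY) (h.char2_of hc hP.le hPY)
  have hE := eab_iff.1 (h.eab_X hc hij)
  refine ⟨h.X_le_O hc hij, hE.2, hPY.trans ((Typ0.YY_le_XF' F i j).trans (ParT.Loc.XF_norm_X T F i j)),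
    h.zl_le_X i hPY, le_normalizer_zl T P, (h.o2_CZ_le j).trans hP.le, ZN.le_normalizer_o2 P,
    SQ1.VOf.MinH.o2_cent hM, fun g hg hgU => ?_⟩
  rw [← h.inf_cent_zl hc hP hPY hmv]
  exact ⟨h.o2_CZ_le j hg, mem_centralizer_iff.2 fun x hx => (hgU x hx).symm⟩

/-- **[X] EXCHANGE** -/
theorem _root_.Cfsg.Agent.Omega.NOThreeL.RWide.ParT.Loc.Typ0.exch (hc : IsCharacteristicTwoType G) {P : Subgroup G}
    {j : ι} (hP : IsMinPar T P) (hPY : P ≤ YY F j) (hmv : ¬ P ≤ centralizer (F j : Set G)) {S E l : Subgroup G}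
    {K : Type} [Field K] [Finite K] [CharP K 2] {e : G → Fin 2 → K} (nb : NB S E (V j) l K e) (TS : T ≤ S)
    (ET : S ⊓ E ≤ T) (Fl : F j ≤ l) {A : Subgroup G} (hA : Mx (o2 (centralizer (zc T : Set G))) A)
    (hAP : ¬ A ≤ o2 P) : o2 P ≤ centralizer (V j : Set G) := by
  obtain ⟨i, hij⟩ := h.exists_ne j
  have hx := h.ex_of hc hij hP hPY hmv
  have hsyl := h.syl_of hP.le hPY
  have hoff := EDel.AOF.AO.off_of hx hA hAP
  obtain ⟨hno, -⟩ := NOThreeL.StarEnd.stmtM G T P (h.syl_of' hP.le hPY) hP (h.char2_of hc hP.le hPY)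
    ⟨A, hA.le.trans hx.OR, hoff⟩
  have hex := EDel.AOF.AO.ex_rel hx hno hA
  have hQT := h.o2_le_T hP.le hPY
  have hTV : T ≤ normalizer (V j : Set G) := h.TV j
  have hel : ∀ A₀ : Subgroup G, (∀ x ∈ A₀, x ^ 2 = 1) → IsElementaryAbelian 2 A₀ := fun A₀ h1 =>
    eab_iff.2 ⟨Cfsg.Agent.Omega.KL.TwoS.comm_of_sq h1, h1⟩
  -- a moved conjugate
  obtain ⟨r, hr, u, hu, a, ha, hne⟩ : ∃ r ∈ P, ∃ u ∈ F j, ∃ a ∈ A, a * (r * u * r⁻¹) * a⁻¹ ≠ r * u * r⁻¹ := by
    by_contra hcon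
    push Not at hcon
    let K : Subgroup G := P ⊓ centralizer ({x | ∃ r ∈ P, ∃ u ∈ F j, x = r * u * r⁻¹} : Set G)
    have hK : P ≤ normalizer (K : Set G) := by
      intro g hg
      refine mem_norm_of fun c hcK => ⟨P.mul_mem (P.mul_mem hg hcK.1) (P.inv_mem hg), mem_centralizer_iff.2 ?_⟩
      rintro x ⟨r, hr, u, hu, rfl⟩
      have h2 := mem_centralizer_iff.1 hcK.2 (g⁻¹ * r * u * (g⁻¹ * r)⁻¹)
        ⟨g⁻¹ * r, mul_mem (inv_mem hg) hr, u, hu, rfl⟩
      calc r * u * r⁻¹ * (g * c * g⁻¹) = g * (g⁻¹ * r * u * (g⁻¹ * r)⁻¹ * c) * g⁻¹ := by group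
        _ = g * (c * (g⁻¹ * r * u * (g⁻¹ * r)⁻¹)) * g⁻¹ := by rw [h2]
        _ = g * c * g⁻¹ * (r * u * r⁻¹) := by group
    rcases hP.sup_eq_or_inf_le h.two hsyl (inf_le_left : K ≤ P) hK with h2 | h2
    · apply hmv
      rw [← h2]
      refine sup_le (fun g hg => mem_centralizer_iff.2 fun u hu => ?_) (h.TC j)
      exact mem_centralizer_iff.1 hg.2 u ⟨1, one_mem _, u, hu, by group⟩
    · apply hAP
      intro a ha
      refine h2 ⟨h.o2_CZ_le j (hA.le ha), hx.OR (hA.le ha), mem_centralizer_iff.2 ?_⟩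
      rintro x ⟨r, hr, u, hu, rfl⟩
      exact (mul_inv_eq_iff_eq_mul.1 (hcon r hr u hu a ha)).symm
  have hres := exch_all hx hP.le hQT h.two (MV.of_nb nb TS hTV ET) (h.V_le_X i j)
    (fun A₀ h1 h2 => nb.no_over ((h1.trans hQT).trans TS) ((h1.trans hQT).trans hTV) (hel A₀ h2))
    (fun A₀ h1 h2 h3 => nb.rootOn ((h1.trans hQT).trans TS) ((h1.trans hQT).trans hTV) (hel A₀ h2) h3)
    hA hex hr (Fl hu) ha hne
  exact fun g hg => mem_centralizer_iff.2 fun x hx => (hres g hg x hx).symm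

end typ0

end Cfsg.Agent.Omega.NOThreeL.RWide.ParA
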