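import Cfsg.Agent.Omega.NOThreeL.RWide.ParA.ExchP
import Cfsg.Agent.Omega.NOThreeL.RWide.ParA.Glue

/-!
# `par` over `T`, the active case: [X] EXCHANGE over the frame `TFm`

**`exch_tfm`** : `P ∈ 𝒫(T)` in `X_j` moves `F j`, some `A` of maximal order in `O₂(C_G(Ω₁Z(T)))` is not in `O₂(P)` :
`O₂(P)` centralises `N j`.
-/

set_option autoImplicit false
set_option linter.unusedSectionVars false

namespace Cfsg.Agent.Omega.NOThreeL.RWide.ParA

open Subgroup Cfsg Cfsg.Agent.Omega.MinPar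
open Cfsg.Agent.ZN (zc o2)
open Cfsg.Agent.MinSimple.MinParabolic (IsMinPar)
open Cfsg.Agent.Omega.KL.TwoS (Mx)
open Cfsg.Agent.Omega.NOThreeL.RWide.TAct (TT OT)

universe u v

variable {G : Type u} [Group G] [Finite G] {ι : Type v} [Finite ι] [Nonempty ι] {S : Sylow 2 G} {V : Subgroup G}
  {N l E : ι → Subgroup G}

/-- `S ∩ E_j ≤ T` -/
theorem inf_E_le (h : TFm S V N l E) (j : ι) : (S : Subgroup G) ⊓ E j ≤ TT (S : Subgroup G) N := by
  rintro s ⟨hs, hsE⟩
  refine ⟨hs, (mem_iInf.2 fun c => ?_ : _)⟩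
  by_cases hc : j = c
  · subst hc
    exact h.EN j hsE
  · exact centralizer_le_normalizer _ (h.EC j c hc hsE)

/-- **[X] EXCHANGE** -/
theorem exch_tfm (h : TFm S V N l E) (hc : IsCharacteristicTwoType G) (three : ∀ i j : ι, ∃ k, k ≠ i ∧ k ≠ j)
    {P : Subgroup G} {j : ι} (hP : IsMinPar (TT (S : Subgroup G) N) P)
    (hPY : P ≤ YY (TAct.FF (S : Subgroup G) N l) j)
    (hmv : ¬ P ≤ centralizer (TAct.FF (S : Subgroup G) N l j : Set G)) {A : Subgroup G}
    (hA : Mx (OT (TT (S : Subgroup G) N)) A) (hAP : ¬ A ≤ o2 P) : o2 P ≤ centralizer (N j : Set G) := by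
  obtain ⟨F, _, _, _, e, nb⟩ := h.nat j
  exact (Glue.typ0 h three).exch hc hP hPY hmv nb inf_le_left (inf_E_le h j) inf_le_left hA hAP

end Cfsg.Agent.Omega.NOThreeL.RWide.ParA
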