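import Cfsg.Agent.Omega.NOThreeL.RWide.ParA.OneE
import Cfsg.Agent.Omega.NOThreeL.RWide.ParA.Burn
import Cfsg.Agent.Omega.NOThreeL.RWide.ParT.UniqG
import Cfsg.Agent.Omega.NOThreeL.RWide.ParT.EndG
import Cfsg.Agent.Omega.NOThreeL.RWide.ParT.Loc
import Cfsg.Agent.Omega.NOThreeL.RWide.TFm

/-!
# `parT`, active case: from the output of [O] to the end

`T`-frame `TFm S V N l E`, `P ∈ 𝒫(T)`, `P ≤ Y_j`; `OutO P (zl T P) A (l j) Y W K x F f` with `K ⊔ T = P`,
`O₂(P) ≤ C(N j)`, `N j ≤ Y ≤ T` elementary abelian, `A ≤ O₂(C_G(Ω₁Z(T)))`: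

* `GlueB.N_eq` : `W = N j` (Burnside);
* `GlueB.of_out` : `P` normalises all blocks (UNIQUENESS + `end_gamma'`).
-/

set_option autoImplicit false
set_option linter.unusedSectionVars false
set_option maxHeartbeats 400000

namespace Cfsg.Agent.Omega.NOThreeL.RWide.ParA.GlueB

open Subgroup Cfsg Cfsg.Agent.Omega.MinPar
open Cfsg.Agent.ZN (zc o2 zl)
open Cfsg.Agent.ZN.ChoiceBase
open Cfsg.Agent.MinSimple.MinParabolic (IsMinPar)
open Cfsg.Agent.Omega.NOThreeL.RWide
open Cfsg.Agent.Omega.NOThreeL.RWide.TBlk (NB Bls)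
open Cfsg.Agent.Omega.NOThreeL.RWide.TAct (TT BB Tf OT)
open Cfsg.Agent.Omega.NOThreeL.RWide.ParT.Loc (Typ0)
open Cfsg.Agent.Omega.NOThreeL.RWide.ParT.Uniq (Crd)
open Cfsg.Agent.Omega.NatPair (ap ap_mul ap_inv_ap ap_zero' ap_one' ext2 exists_ap_e)
open Cfsg.Agent.Lib.SL2Mat

universe u v

variable {G : Type u} [Group G]

/-! ### coordinates -/

theorem ap_eq {F : Type} [Field F] (A : Matrix.SpecialLinearGroup (Fin 2) F) (x : Fin 2 → F) : ap A x = A.1.mulVec x := by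
  refine ext2 ?_ ?_
  · rw [ap_zero']; simp [Matrix.mulVec, dotProduct, Fin.sum_univ_two, ent]
  · rw [ap_one']; simp [Matrix.mulVec, dotProduct, Fin.sum_univ_two, ent]

section nb

variable {S E N l : Subgroup G} {F : Type} [Field F] {e : G → Fin 2 → F} (h : NB S E N l F e)
include h

theorem e_one : e 1 = 0 := TFmNB.e_one_of h

theorem e_ext {v w : G} (hv : v ∈ N) (hw : w ∈ N) (e1 : e v = e w) : v = w := (Crd.of_NB h).ext hv hw e1

/-- `E` is transitive on `N#` -/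
theorem trN (hEN : E ≤ normalizer (N : Set G)) : ∀ v ∈ N, v ≠ 1 → ∀ w ∈ N, w ≠ 1 → ∃ g ∈ E, g * v * g⁻¹ = w := by
  intro v hv hv1 w hw hw1
  obtain ⟨A₁, h1⟩ := exists_ap_e (x := e v) fun e0 => hv1 (h.inj v hv e0)
  obtain ⟨A₂, h2⟩ := exists_ap_e (x := e w) fun e0 => hw1 (h.inj w hw e0)
  obtain ⟨g, hg, hgv⟩ := h.full (A₂ * A₁⁻¹)
  refine ⟨g, hg, e_ext h ((mem_normalizer_iff.1 (hEN hg) v).1 hv) hw ?_⟩
  rw [hgv v hv, ← ap_eq, ← h1, ap_mul, ap_inv_ap, h2]

theorem card_N [Finite F] : Nat.card N = Nat.card F ^ 2 := by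
  classical
  let φ : N → (Fin 2 → F) := fun w => e w
  have hb : Function.Bijective φ := by
    refine ⟨fun a b e1 => Subtype.ext (e_ext h a.2 b.2 e1), fun y => ?_⟩
    obtain ⟨v, hv, e1⟩ := h.sur y
    exact ⟨⟨v, hv⟩, e1⟩
  rw [Nat.card_congr (Equiv.ofBijective φ hb), Nat.card_fun]
  simp

theorem card_l [Finite F] : Nat.card l = Nat.card F := by
  classical
  let φ : l → F := fun r => e r 0
  have hb : Function.Bijective φ := by
    refine ⟨fun a b e1 => Subtype.ext (e_ext h ((h.line a).1 a.2).1 ((h.line b).1 b.2).1 (ext2 e1 ?_)), fun y => ?_⟩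
    · rw [((h.line a).1 a.2).2, ((h.line b).1 b.2).2]
    · obtain ⟨v, hv, e1⟩ := h.sur ![y, 0]
      exact ⟨⟨v, (h.line v).2 ⟨hv, by rw [e1]; rfl⟩⟩, by change e v 0 = y; rw [e1]; rfl⟩
  exact Nat.card_congr (Equiv.ofBijective φ hb)

end nb

/-! ### the glue -/

section glue

variable {ι : Type v} [Finite G] [Finite ι] [Nonempty ι] {S : Sylow 2 G} {V : Subgroup G} {N l E : ι → Subgroup G}
  (h : TFm S V N l E) (tf : Tf S V N l) (t0 : Typ0 (TT (S : Subgroup G) N) (TAct.FF (S : Subgroup G) N l) N)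
  {j : ι} {P A Y W K : Subgroup G} {x : G} {F : Type} [Field F] [Finite F] {f : G → Fin 2 → F}
include h tf t0

theorem E_le_YY (j : ι) : E j ≤ YY (TAct.FF (S : Subgroup G) N l) j :=
  le_YY fun c hc => (h.EC j c (Ne.symm hc)).trans (centralizer_le (tf.F_le_N c))

/-- **`W = N j`** -/
theorem N_eq (hP : IsMinPar (TT (S : Subgroup G) N) P) (hPY : P ≤ YY (TAct.FF (S : Subgroup G) N l) j)
    (ab : IsElementaryAbelian 2 Y) (PY : P ≤ normalizer (Y : Set G)) (UY : zl (TT (S : Subgroup G) N) P ≤ Y)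
    (NY : N j ≤ Y) (YT : Y ≤ TT (S : Subgroup G) N)
    (hO : OutO P (zl (TT (S : Subgroup G) N) P) A (l j) Y W K x F f) : N j = W := by
  classical
  set T := TT (S : Subgroup G) N with hT
  obtain ⟨F', _, _, _, e, nb⟩ := h.nat j
  have zcom : ∀ b c, TAct.FF (S : Subgroup G) N l b ≤ centralizer (TAct.FF (S : Subgroup G) N l c : Set G) := fun b c =>
    ((tf.F_le b).trans (Cfsg.Agent.ZN.zc_le _)).trans (t0.TC c)
  have h1 : N j ≤ W := by
    refine Burn.burn' (T := T) (Yj := YY (TAct.FF (S : Subgroup G) N l) j) (W := W) (Cc := Y ⊓ centralizer (K : Set G))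
      (Yh := Y) (V := N j) (F := TAct.FF (S : Subgroup G) N l j) (Z₀ := ⨆ c : {c // c ≠ j}, TAct.FF (S : Subgroup G) N l c)
      tf.T2 ab hO.splitC hO.djC (hO.WU.trans UY) inf_le_left NY (hP.le.trans hO.PW) (hP.le.trans (hO.PC PY)) (t0.TV j)
      ((tf.F_le_l j).trans hO.RW) (fun z hz hzT => ?_) ?_ ?_ ?_ ?_ ?_ ?_ (t0.ne j)
    · have hz1 : z ∈ zc T := mem_zc.2 ⟨YT hz, ab.2 z hz, fun t ht => (mem_centralizer_iff.1 hzT t ht)⟩
      refine (t0.sup.trans (iSup_le fun b => ?_)) hz1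
      by_cases hb : b = j
      · rw [hb]; exact le_sup_left
      · exact (le_iSup (fun c : {c // c ≠ j} => TAct.FF (S : Subgroup G) N l c) ⟨b, hb⟩).trans le_sup_right
    · refine eq_bot_iff.2 ?_
      rw [← h.ind j]
      exact inf_le_inf (tf.F_le_N j) (iSup_mono fun c => tf.F_le_N c)
    · exact iSup_le fun c => zcom c j
    · refine iSup_le fun c => ?_
      have h2 : YY (TAct.FF (S : Subgroup G) N l) j ≤ centralizer (TAct.FF (S : Subgroup G) N l c : Set G) := YY_le_cent c.2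
      exact NoFF.Basic.comm_symm h2
    · intro v hv hv1 w hw hw1
      obtain ⟨k, hk, e1⟩ := hO.trW v (hO.RW (tf.F_le_l j hv)) hv1 w hw hw1
      exact ⟨k, hPY (hO.KP hk), e1⟩
    · intro v hv hv1 w hw hw1
      obtain ⟨g, hg, e1⟩ := trN nb (h.EN j) v (tf.F_le_N j hv) hv1 w hw hw1
      exact ⟨g, E_le_YY h tf t0 j hg, e1⟩
    · intro v hv z hz g hg e1
      exact t0.burn_mul hv hz hg e1
  refine Subgroup.eq_of_le_of_card_ge h1 ?_
  rw [hO.card_W, card_l nb, card_N nb]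

/-- **From the output of [O] to the end.** -/
theorem of_out (hP : IsMinPar (TT (S : Subgroup G) N) P) (hPY : P ≤ YY (TAct.FF (S : Subgroup G) N l) j)
    (ab : IsElementaryAbelian 2 Y) (PY : P ≤ normalizer (Y : Set G)) (UY : zl (TT (S : Subgroup G) N) P ≤ Y)
    (NY : N j ≤ Y) (YT : Y ≤ TT (S : Subgroup G) N)
    (hO : OutO P (zl (TT (S : Subgroup G) N) P) A (l j) Y W K x F f) (KT : K ⊔ TT (S : Subgroup G) N = P)
    (hX : o2 P ≤ centralizer (N j : Set G)) (AO : A ≤ OT (TT (S : Subgroup G) N)) (AT : A ≤ TT (S : Subgroup G) N)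
    (hAP : ¬ A ≤ o2 P) (b : ι) : P ≤ normalizer (N b : Set G) := by
  classical
  have : Fact (Nat.Prime 2) := ⟨Nat.prime_two⟩
  have hNW := N_eq h tf t0 hP hPY ab PY UY NY YT hO
  set T := TT (S : Subgroup G) N with hT
  obtain ⟨F', _, _, _, e, nb⟩ := h.nat j
  have PN : P ≤ normalizer (N j : Set G) := by rw [hNW]; exact hO.PW
  -- `T ⊓ C(N j) = O₂(P)`
  have hQ : T ⊓ centralizer (N j : Set G) = o2 P := by
    apply le_antisymm
    · have hn : P ≤ normalizer ((P ⊓ centralizer (N j : Set G) : Subgroup G) : Set G) := by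
        intro g hg
        rw [mem_normalizer_iff_cj, cj_inf, cj_centralizer, cj_eq_of_mem_normalizer (Subgroup.le_normalizer hg),
          cj_eq_of_mem_normalizer (PN hg)]
      rcases hP.sup_eq_or_inf_le (p := 2) tf.T2 (t0.syl_of hP.le hPY) inf_le_left hn with h1 | h1
      · exfalso
        -- `P` centralises `F j`
        have h2 : P ≤ centralizer (TAct.FF (S : Subgroup G) N l j : Set G) := by
          rw [← h1]
          exact sup_le (inf_le_right.trans (centralizer_le (tf.F_le_N j))) (t0.TC j)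
        obtain ⟨⟨v, hv⟩, hv1⟩ := (Subgroup.ne_bot_iff_exists_ne_one).1 (t0.ne j)
        have hv1' : v ≠ 1 := fun h3 => hv1 (Subtype.ext h3)
        have hvW : v ∈ W := hO.RW (tf.F_le_l j hv)
        obtain ⟨w, hw, hwe⟩ := hO.sur ![0, 1]
        have hw1 : w ≠ 1 := by
          rintro rfl
          rw [hO.map_one] at hwe
          exact zero_ne_one (congrFun hwe 1)
        obtain ⟨k, hk, e1⟩ := hO.trW v hvW hv1' w hw hw1
        have h3 : k * v * k⁻¹ = v := by
          rw [← mem_centralizer_iff.1 (h2 (hO.KP hk)) v hv]; group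
        have h4 : v = w := h3.symm.trans e1
        have h5 := (hO.line v hvW).1 (tf.F_le_l j hv)
        rw [h4, hwe] at h5
        exact one_ne_zero h5
      · exact (le_inf inf_le_left (inf_le_inf_right _ hP.le)).trans h1
    · exact le_inf (t0.o2_le_T hP.le hPY) hX
  have hPQ : P ≤ normalizer ((T ⊓ centralizer (N j : Set G) : Subgroup G) : Set G) := by
    rw [hQ]; exact MinSimple.VModule.le_normalizer_o2 _
  -- UNIQUENESS
  set H : Subgroup G := YY (TAct.FF (S : Subgroup G) N l) j ⊓ normalizer (N j : Set G) with hH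
  have TH : T ≤ H := le_inf (t0.T_le j) (t0.TV j)
  have hcrd : Crd (N j) (l j) K F f :=
    { mul := fun v hv w hw => hO.mul v (hNW ▸ hv) w (hNW ▸ hw)
      inj := fun v hv => hO.inj v (hNW ▸ hv)
      sur := fun y => by
        obtain ⟨v, hv, e1⟩ := hO.sur y
        exact ⟨v, by rw [hNW]; exact hv, e1⟩
      line := fun v => ⟨fun hv => ⟨tf.lN j hv, (hO.line v (hO.RW hv)).1 hv⟩, fun hv => (hO.line v (hNW ▸ hv.1)).2 hv.2⟩
      full := fun M => by
        obtain ⟨g, hg, e1⟩ := hO.full M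
        exact ⟨g, hO.BK' hg, fun v hv => by rw [e1 v (hNW ▸ hv), ap_eq]⟩ }
  have hsame := ParT.Uniq.same (H := H) (P := P) (T := T) (Crd.of_NB nb) hcrd
    (fun g hg => by
      obtain ⟨M, hM⟩ := hO.act g hg
      exact ⟨M, fun v hv => by rw [hM v (hNW ▸ hv), ap_eq]⟩)
    (fun s hs => nb.semi s hs.1 (t0.TV j hs)) tf.T2 TH
    (fun h1 => t0.syl j (by
      rw [← relIndex_mul_relIndex T H _ TH inf_le_left]
      exact h1.mul_right _)) inf_le_right (le_inf (E_le_YY h tf t0 j) (h.EN j))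
    (le_inf (hO.KP.trans hPY) (hO.KP.trans PN)) (hP.le.trans hO.PK) KT.ge
  refine tf.end_gamma' (A := A) hP hPY hPQ AO AT hAP (fun p hp => ?_) b
  obtain ⟨y, hy, e1⟩ := hsame p hp
  refine ⟨y, (sup_le (E_le_YY h tf t0 j) (t0.T_le j)) hy, fun c => ?_, e1⟩
  refine (sup_le ?_ (t0.TV c)) hy
  by_cases hc : c = j
  · rw [hc]; exact h.EN j
  · exact (h.EC j c (Ne.symm hc)).trans (centralizer_le_normalizer _)

end glue

end Cfsg.Agent.Omega.NOThreeL.RWide.ParA.GlueB
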