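import Cfsg.Agent.Omega.NO3S.SOne.NTBase

/-!
# `par` over `T`, active case (helper506 #27090), piece [O]: ONE BLOCK

`P` a minimal parabolic over its Sylow group `T`, `U = zl T P`, `D = cv T P`, `M : NatKM F T P U D k`; `A ≤ T` an exact
offender on `U`, `Y ≥ U` a `P`-invariant elementary abelian group centralised by `C_T(U)` on which `A` is not an
over-offender, `V ≤ Y` a natural module for `A` (`R = [v, A] = [V, a]`), `R` normalised by `T`.

* `InO` : the input; `InO.one` : `k = 1`, `A` is the root group;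
* `InO.UV`, `InO.comm`, `InO.R_U`, `InO.R_D` : `Y = V C_Y(A)`, `[Y, A] = R ≤ U`, `R ∩ D = 1`.
-/

set_option autoImplicit false
set_option linter.unusedSectionVars false

namespace Cfsg.Agent.Omega.NOThreeL.RWide.ParA

open Subgroup Cfsg Cfsg.Agent.ZN Cfsg.Agent.ZN.ChoiceBase Cfsg.Agent.Omega.MinPar
open Cfsg.Agent.Omega.FFThm (ElemM OffM NoOverM NatKM ActsSL relIndex_le_iff)
open Cfsg.Agent.Omega.NatPair (ap ap_mul ap_one ap_inv_ap ap_zero' ap_one' ext2 exists_ap)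
open Cfsg.Agent.Omega.NOThreeL.NF.NatR (Const ap_up ap_lo)
open Cfsg.Agent.Omega.NO3S.SOne.NatD
open Cfsg.Agent.Lib.SL2Mat
open scoped commutatorElement Pointwise

universe u

variable {G : Type u} [Group G]

/-- `|Y : C_Y(A)| ≤ |X : C_X(A)|` for `X ≤ Y` gives `Y = X C_Y(A)`. -/
theorem mul_of_rel [Finite G] {X Y A : Subgroup G} (hXY : X ≤ Y) (hab : ∀ x ∈ Y, ∀ y ∈ Y, x * y = y * x)
    (h : (centralizer (A : Set G)).relIndex Y ≤ (centralizer (A : Set G)).relIndex X) {y : G} (hy : y ∈ Y) :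
    ∃ x ∈ X, ∃ c ∈ Y ⊓ centralizer (A : Set G), y = x * c := by
  have hc : Y ⊓ centralizer (A : Set G) ≤ centralizer (X : Set G) := fun c hc =>
    mem_centralizer_iff.2 fun x hx => hab x (hXY hx) c hc.1
  have h1 := Cfsg.Agent.PLocal.ElemAbSup.card_sup_mul_card_inf hc
  have e1 : X ⊓ (Y ⊓ centralizer (A : Set G)) = X ⊓ centralizer (A : Set G) := by
    rw [← inf_assoc, inf_eq_left.2 hXY]
  rw [e1, ← NOThreeL.Star.rel_mul_card X (centralizer (A : Set G))] at h1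
  have h0 : 0 < Nat.card ↥(X ⊓ centralizer (A : Set G)) := Nat.card_pos
  have h2 : Nat.card ↥(X ⊔ (Y ⊓ centralizer (A : Set G)) : Subgroup G) =
      (centralizer (A : Set G)).relIndex X * Nat.card ↥(Y ⊓ centralizer (A : Set G)) := by
    refine Nat.eq_of_mul_eq_mul_right h0 ?_
    rw [h1]; ring
  have h3 : Y ≤ X ⊔ (Y ⊓ centralizer (A : Set G)) := by
    have hle : X ⊔ (Y ⊓ centralizer (A : Set G)) ≤ Y := sup_le hXY inf_le_left
    refine (Subgroup.eq_of_le_of_card_ge hle ?_).ge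
    rw [h2, ← NOThreeL.Star.rel_mul_card Y (centralizer (A : Set G))]
    exact Nat.mul_le_mul_right _ h
  have h4 := h3 hy
  have h5 : (y : G) ∈ ((X ⊔ (Y ⊓ centralizer (A : Set G)) : Subgroup G) : Set G) := h4
  rw [Cfsg.Agent.PLocal.ElemAbSup.coe_sup_of_le_centralizer hc] at h5
  obtain ⟨x, hx, c, hc', e⟩ := Set.mem_mul.1 h5
  exact ⟨x, hx, c, hc', e.symm⟩

/-- **The input of [O]** (helper506 #27090). -/
structure InO (T P U D A V R Y : Subgroup G) : Prop where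
  amb : AmbD T P U D
  AT : A ≤ T
  off : OffM U A
  ex : (centralizer (U : Set G)).relIndex A ≤ (centralizer (A : Set G)).relIndex U
  ab : ∀ x ∈ Y, ∀ y ∈ Y, x * y = y * x
  sq : ∀ x ∈ Y, x * x = 1
  UY : U ≤ Y
  VY : V ≤ Y
  PY : P ≤ normalizer (Y : Set G)
  QY : ∀ g ∈ T, g ∈ centralizer (U : Set G) → g ∈ centralizer (Y : Set G)
  th : (centralizer (A : Set G)).relIndex Y ≤ (centralizer (Y : Set G)).relIndex A
  RV : R ≤ V
  VR : ¬ V ≤ R
  RT : T ≤ normalizer (R : Set G)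
  RA : R ≤ centralizer (A : Set G)
  AV : ∀ a ∈ A, ∀ v ∈ V, a * v * a⁻¹ * v⁻¹ ∈ R
  vA : ∀ v ∈ V, v ∉ R → ∀ r ∈ R, ∃ a ∈ A, a * v * a⁻¹ * v⁻¹ = r
  aV : ∀ a ∈ A, a ∉ centralizer (V : Set G) → ∀ r ∈ R, ∃ v ∈ V, a * v * a⁻¹ * v⁻¹ = r
  card : (centralizer (V : Set G)).relIndex A ≤ (centralizer (A : Set G)).relIndex V
  nD : ¬ R ≤ D

namespace InO

variable {F : Type} [Field F] {T P U D A V R Y : Subgroup G} {k : ℕ}

theorem cm_eq (h : InO T P U D A V R Y) {a u c : G} (ha : a ∈ A) (hu : u ∈ Y) (hc : c ∈ Y ⊓ centralizer (A : Set G)) :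
    a * (u * c) * a⁻¹ * (u * c)⁻¹ = a * u * a⁻¹ * u⁻¹ := by
  have h1 : a * c = c * a := mem_centralizer_iff.1 hc.2 a ha
  have h2 : c * (a * u * a⁻¹) = a * u * a⁻¹ * c := h.ab _ hc.1 _ ((mem_normalizer_iff.1
    (h.PY (h.amb.SP (h.AT ha))) u).1 hu)
  calc a * (u * c) * a⁻¹ * (u * c)⁻¹ = a * u * (c * a⁻¹) * c⁻¹ * u⁻¹ := by group
    _ = a * u * (a⁻¹ * c) * c⁻¹ * u⁻¹ := by
        rw [show c * a⁻¹ = a⁻¹ * (a * c) * a⁻¹ by group, h1]; group
    _ = a * u * a⁻¹ * u⁻¹ := by group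

/-- `C_A(U) = C_A(Y)` -/
theorem rel_Y (h : InO T P U D A V R Y) :
    (centralizer (Y : Set G)).relIndex A = (centralizer (U : Set G)).relIndex A := by
  have e : centralizer (Y : Set G) ⊓ A = centralizer (U : Set G) ⊓ A := by
    ext a
    constructor
    · exact fun ha => ⟨centralizer_le (by exact_mod_cast h.UY) ha.1, ha.2⟩
    · exact fun ha => ⟨h.QY a (h.AT ha.2) ha.1, ha.2⟩
  rw [← inf_relIndex_right, e, inf_relIndex_right]

/-- `Y = U C_Y(A)` -/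
theorem split_U [Finite G] (h : InO T P U D A V R Y) {y : G} (hy : y ∈ Y) :
    ∃ x ∈ U, ∃ c ∈ Y ⊓ centralizer (A : Set G), y = x * c :=
  mul_of_rel h.UY h.ab ((h.th.trans h.rel_Y.le).trans h.ex) hy

variable (M : NatKM F T P U D k)

/-- coordinates of a commutator -/
theorem e_cm (h : InO T P U D A V R Y) {a u : G} (ha : a ∈ A) (hu : u ∈ U) {b : Fin k → F}
    (hb : ActsSL M.e U D a fun i => up (b i)) (i : Fin k) : M.e (a * u * a⁻¹ * u⁻¹) i = ![b i * M.e u i 1, 0] := by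
  rw [M.mul _ (h.amb.cm (h.amb.SP (h.AT ha)) hu) _ (inv_mem hu), e_inv hu, Pi.add_apply, Pi.neg_apply, hb.1 u hu i, ap_up]
  exact ext2 (by simp) (by simp)

/-- **one block** -/
theorem one [Finite G] [Finite F] (h : InO T P U D A V R Y) : k = 1 ∧ ∃ i, One M A i := by
  classical
  obtain ⟨I, h1, h2⟩ := M.offM A h.AT h.off
  obtain ⟨v, hv, hvR⟩ := SetLike.not_le_iff_exists.1 h.VR
  obtain ⟨u, hu, c, hc, e⟩ := h.split_U (h.VY hv)
  have hR : ∀ r ∈ R, ∃ a ∈ A, a * u * a⁻¹ * u⁻¹ = r := by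
    intro r hr
    obtain ⟨a, ha, har⟩ := h.vA v hv hvR r hr
    refine ⟨a, ha, ?_⟩
    rw [← har, e, h.cm_eq ha (h.UY hu) hc]
  -- some `r ∈ R` has nonzero coordinates
  obtain ⟨r0, hr0, hr0D⟩ := SetLike.not_le_iff_exists.1 h.nD
  have hRU : R ≤ U := fun r hr => by
    obtain ⟨a, ha, rfl⟩ := hR r hr
    exact mul_mem (h.amb.cm (h.amb.SP (h.AT ha)) hu) (inv_mem hu)
  obtain ⟨i0, hi0⟩ : ∃ i, M.e r0 i ≠ 0 := by
    by_contra hcon
    push Not at hcon
    exact hr0D ((M.ker r0 (hRU hr0)).1 (funext hcon))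
  -- every block
  have hall : ∀ j, ∃ r ∈ R, M.e r j ≠ 0 := by
    intro j
    obtain ⟨t, ht, htj⟩ := M.trans i0 j
    exact ⟨t * r0 * t⁻¹, (mem_normalizer_iff.1 (h.RT ht) r0).1 hr0, fun h3 => hi0 ((htj r0 (hRU hr0)).1 h3)⟩
  have hI : ∀ j, j ∈ I ∧ M.e u j 1 ≠ 0 := by
    intro j
    obtain ⟨r, hr, hrj⟩ := hall j
    obtain ⟨a, ha, rfl⟩ := hR r hr
    obtain ⟨b, hb, hab⟩ := h1 a ha
    rw [h.e_cm M ha hu hab] at hrj
    refine ⟨?_, ?_⟩
    · by_contra hj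
      apply hrj
      rw [hb j hj, zero_mul]
      exact ext2 rfl rfl
    · intro h3
      apply hrj
      rw [h3, mul_zero]
      exact ext2 rfl rfl
  have hk : ∀ i j : Fin k, i = j := by
    intro i j
    by_contra hne
    obtain ⟨a, ha, hab⟩ := h2 (Pi.single i 1) (fun l hl => absurd (hI l).1 hl)
    have h3 : M.e (a * u * a⁻¹ * u⁻¹) i ≠ 0 := by
      rw [h.e_cm M ha hu hab, Pi.single_eq_same, one_mul]
      intro h4
      exact (hI i).2 (congrFun h4 0)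
    have haV : a ∉ centralizer (V : Set G) := by
      intro h4
      apply h3
      have h5 : a * v * a⁻¹ * v⁻¹ = 1 := by
        rw [← mem_centralizer_iff.1 h4 v hv]; group
      rw [e, h.cm_eq ha (h.UY hu) hc] at h5
      rw [h5, e_one]; rfl
    obtain ⟨r, hr, hrj⟩ := hall j
    obtain ⟨v', hv', hvr⟩ := h.aV a ha haV r hr
    obtain ⟨u', hu', c', hc', e'⟩ := h.split_U (h.VY hv')
    rw [e', h.cm_eq ha (h.UY hu') hc'] at hvr
    rw [← hvr, h.e_cm M ha hu' hab, Pi.single_eq_of_ne (Ne.symm hne), zero_mul] at hrj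
    exact hrj (ext2 rfl rfl)
  have hk1 : k = 1 := by
    have h3 : k ≤ 1 := by
      by_contra h4
      push Not at h4
      have := hk ⟨0, by omega⟩ ⟨1, h4⟩
      simp at this
    have := i0.2
    omega
  exact ⟨hk1, i0, One.of_single h.amb h.AT (hI i0).1 (fun j _ => hk j i0) h1 h2⟩

end InO

end Cfsg.Agent.Omega.NOThreeL.RWide.ParA
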