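import Cfsg.Agent.Omega.NOThreeL.RWide.ParA.One

/-!
# `par` over `T`, active case (helper506 #27090), piece [O]: the block `W = R R^x`

`M : NatKM F T P U D 1`, `A` the root group.

* `InO.RU`, `InO.split_V`, `InO.comm_Y`, `InO.cc` : `R ≤ U`, `Y = V C_Y(A)`, `[Y, A] = R = [y, A]` for `y ∉ C(A)`;
* `OutO` : the output; `InO.out`.
-/

set_option autoImplicit false
set_option linter.unusedSectionVars false

namespace Cfsg.Agent.Omega.NOThreeL.RWide.ParA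

open Subgroup Cfsg Cfsg.Agent.ZN Cfsg.Agent.ZN.ChoiceBase Cfsg.Agent.Omega.MinPar
open Cfsg.Agent.ZN.ChoiceSit (Syl)
open Cfsg.Agent.Omega.FFThm (ElemM OffM NoOverM NatKM ActsSL relIndex_le_iff)
open Cfsg.Agent.Omega.NatPair (ap ap_mul ap_one ap_inv_ap ap_zero' ap_one' ext2 exists_ap)
open Cfsg.Agent.Omega.NOThreeL.NF.NatR (Const ap_up ap_lo)
open Cfsg.Agent.Omega.NO3S.SOne.NatD
open Cfsg.Agent.Lib.SL2Mat
open scoped commutatorElement Pointwise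

universe u

variable {G : Type u} [Group G]

theorem conj_mem_iff {g x : G} {H : Subgroup G} : g * x * g⁻¹ ∈ cj g H ↔ x ∈ H := by
  rw [mem_cj]
  have e : g⁻¹ * (g * x * g⁻¹) * g = x := by group
  rw [e]

/-- Sylow's theorem -/
theorem exists_conj_mem [Finite G] {T P : Subgroup G} (hT : Syl T P) {g : G} (hg : g ∈ P)
    (h2 : IsPGroup 2 (zpowers g)) : ∃ p ∈ P, p * g * p⁻¹ ∈ T := by
  have hp : Fact (Nat.Prime 2) := ⟨Nat.prime_two⟩
  obtain ⟨R, hR⟩ := (hT.2.1.comap_subtype (K := P)).exists_le_sylow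
  have hTU : ∀ t : P, t ∈ R → (t : G) ∈ T := by
    intro t ht
    have h1 := hT.2.2 ((R : Subgroup P).map P.subtype) (map_subtype_le _) (R.isPGroup'.map _) (fun u hu =>
      ⟨⟨u, hT.1 hu⟩, hR (mem_subgroupOf.2 hu), rfl⟩)
    rw [← h1]
    exact ⟨t, ht, rfl⟩
  obtain ⟨Q, hQ⟩ := (h2.comap_subtype (K := P)).exists_le_sylow
  obtain ⟨p, hp'⟩ := MulAction.exists_smul_eq P Q R
  refine ⟨p, p.2, ?_⟩
  have h1 : (⟨g, hg⟩ : P) ∈ Q := hQ (mem_subgroupOf.2 (mem_zpowers g))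
  have h3 : p * (⟨g, hg⟩ : P) * p⁻¹ ∈ (R : Subgroup P) := by
    rw [← hp']
    exact smul_mem_pointwise_smul _ (MulAut.conj p) _ h1
  exact hTU _ h3

namespace InO

variable {F : Type} [Field F] {T P U D A V R Y : Subgroup G}

theorem exists_v (h : InO T P U D A V R Y) : ∃ v ∈ V, v ∉ R := SetLike.not_le_iff_exists.1 h.VR

theorem R_ne (h : InO T P U D A V R Y) : ∃ r ∈ R, r ≠ 1 := by
  by_contra hcon
  push Not at hcon
  exact h.nD fun r hr => by rw [hcon r hr]; exact one_mem _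

/-- a vector of `U` with `[u, A] = R` -/
theorem exists_u [Finite G] (h : InO T P U D A V R Y) : ∃ u ∈ U, u ∉ centralizer (A : Set G) ∧
    (∀ r ∈ R, ∃ a ∈ A, a * u * a⁻¹ * u⁻¹ = r) ∧ (∀ a ∈ A, a * u * a⁻¹ * u⁻¹ ∈ R) ∧
      ∀ a ∈ A, a ∈ centralizer (V : Set G) → a * u = u * a := by
  obtain ⟨v, hv, hvR⟩ := h.exists_v
  obtain ⟨u, hu, c, hc, e⟩ := h.split_U (h.VY hv)
  have h1 : ∀ r ∈ R, ∃ a ∈ A, a * u * a⁻¹ * u⁻¹ = r := by
    intro r hr
    obtain ⟨a, ha, har⟩ := h.vA v hv hvR r hr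
    refine ⟨a, ha, ?_⟩
    rw [← har, e, h.cm_eq ha (h.UY hu) hc]
  refine ⟨u, hu, ?_, h1, fun a ha => ?_, fun a ha hac => ?_⟩
  · intro huc
    obtain ⟨r, hr, hr1⟩ := h.R_ne
    obtain ⟨a, ha, har⟩ := h1 r hr
    apply hr1
    rw [← har, mem_centralizer_iff.1 huc a ha]; group
  · have h2 := h.AV a ha v hv
    rwa [e, h.cm_eq ha (h.UY hu) hc] at h2
  · have h2 : a * v * a⁻¹ * v⁻¹ = 1 := by
      rw [← mem_centralizer_iff.1 hac v hv]; group
    rw [e, h.cm_eq ha (h.UY hu) hc] at h2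
    exact mul_inv_eq_iff_eq_mul.1 (mul_inv_eq_one.1 h2)

theorem RU [Finite G] (h : InO T P U D A V R Y) : R ≤ U := by
  obtain ⟨u, hu, -, h1, -⟩ := h.exists_u
  intro r hr
  obtain ⟨a, ha, rfl⟩ := h1 r hr
  exact mul_mem (h.amb.cm (h.amb.SP (h.AT ha)) hu) (inv_mem hu)

variable {M : NatKM F T P U D 1}

/-- `C_A(V) = C_A(U)` -/
theorem cent_V [Finite G] [Finite F] (h : InO T P U D A V R Y) (o : One M A 0) {a : G} (ha : a ∈ A) :
    a ∈ centralizer (V : Set G) ↔ a ∈ centralizer (U : Set G) := by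
  constructor
  · intro hac
    obtain ⟨u, hu, huA, -, -, h2⟩ := h.exists_u
    exact o.cent h.amb h.off hu huA ha (h2 a ha hac)
  · intro hac
    exact centralizer_le (by exact_mod_cast h.VY) (h.QY a (h.AT ha) hac)

/-- `Y = V C_Y(A)` -/
theorem split_V [Finite G] [Finite F] (h : InO T P U D A V R Y) (o : One M A 0) {y : G} (hy : y ∈ Y) :
    ∃ x ∈ V, ∃ c ∈ Y ⊓ centralizer (A : Set G), y = x * c := by
  refine mul_of_rel h.VY h.ab ?_ hy
  refine ((h.th.trans h.rel_Y.le).trans (le_of_eq ?_)).trans h.card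
  have e : centralizer (U : Set G) ⊓ A = centralizer (V : Set G) ⊓ A := by
    ext a
    constructor
    · exact fun ha => ⟨(h.cent_V o ha.2).2 ha.1, ha.2⟩
    · exact fun ha => ⟨(h.cent_V o ha.2).1 ha.1, ha.2⟩
  rw [← inf_relIndex_right, e, inf_relIndex_right]

/-- `[Y, A] ≤ R` -/
theorem comm_Y [Finite G] [Finite F] (h : InO T P U D A V R Y) (o : One M A 0) {a y : G} (ha : a ∈ A) (hy : y ∈ Y) :
    a * y * a⁻¹ * y⁻¹ ∈ R := by
  obtain ⟨v, hv, c, hc, rfl⟩ := h.split_V o hy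
  rw [h.cm_eq ha (h.VY hv) hc]
  exact h.AV a ha v hv

/-- `[y, A] = R` for `y ∈ Y - C(A)` -/
theorem cc [Finite G] [Finite F] (h : InO T P U D A V R Y) (o : One M A 0) {y : G} (hy : y ∈ Y)
    (hyA : y ∉ centralizer (A : Set G)) : ∀ r ∈ R, ∃ a ∈ A, a * y * a⁻¹ * y⁻¹ = r := by
  obtain ⟨v, hv, c, hc, rfl⟩ := h.split_V o hy
  intro r hr
  have hvR : v ∉ R := fun h1 => hyA (mul_mem (h.RA h1) hc.2)
  obtain ⟨a, ha, har⟩ := h.vA v hv hvR r hr
  exact ⟨a, ha, by rw [h.cm_eq ha (h.VY hv) hc]; exact har⟩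

theorem e_R [Finite G] [Finite F] (h : InO T P U D A V R Y) (o : One M A 0) {r : G} (hr : r ∈ R) : M.e r 0 1 = 0 :=
  o.zero_of_cent (h.RU hr) (h.RA hr)

/-- `R ⊓ D = 1` -/
theorem R_D [Finite G] [Finite F] (h : InO T P U D A V R Y) (o : One M A 0) {r : G} (hr : r ∈ R)
    (h0 : M.e r 0 0 = 0) : r = 1 := by
  obtain ⟨u, hu, huA, h1, -⟩ := h.exists_u
  obtain ⟨a, ha, rfl⟩ := h1 r hr
  obtain ⟨c, hc⟩ := o.acts a ha
  have h2 := e_comm h.amb (h.amb.SP (h.AT ha)) hc hu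
  rw [h2] at h0
  have h3 : c * M.e u 0 1 = 0 := h0
  rcases mul_eq_zero.1 h3 with h4 | h4
  · rw [h4] at hc
    have h5 := cent_of_zero h.amb (h.amb.SP (h.AT ha)) hc
    rw [← mem_centralizer_iff.1 h5 u hu]; group
  · exact absurd ((o.cent_iff h.amb h.off hu).2 h4) huA

/-- `e` maps `R` onto the line -/
theorem R_sur [Finite G] [Finite F] (h : InO T P U D A V R Y) (o : One M A 0) (c : F) :
    ∃ r ∈ R, M.e r 0 = ![c, 0] := by
  obtain ⟨u, hu, huA, -, h1, -⟩ := h.exists_u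
  have hu1 : M.e u 0 1 ≠ 0 := fun h2 => huA ((o.cent_iff h.amb h.off hu).2 h2)
  obtain ⟨a, ha, hac⟩ := o.ex (c * (M.e u 0 1)⁻¹)
  refine ⟨_, h1 a ha, ?_⟩
  rw [e_comm h.amb (h.amb.SP (h.AT ha)) hac hu, mul_assoc, inv_mul_cancel₀ hu1, mul_one]

end InO

end Cfsg.Agent.Omega.NOThreeL.RWide.ParA
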