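import Cfsg.Agent.Omega.NOThreeL.RWide.ParA.OneB

/-!
# `par` over `T`, active case (helper506 #27090), piece [O]: the block `W = R R^x` (end)

* `OutO` : the output; `InO.out`.
-/

set_option autoImplicit false
set_option linter.unusedSectionVars false

namespace Cfsg.Agent.Omega.NOThreeL.RWide.ParA

open Subgroup Cfsg Cfsg.Agent.ZN Cfsg.Agent.ZN.ChoiceBase Cfsg.Agent.Omega.MinPar
open Cfsg.Agent.ZN.ChoiceSit (Syl)
open Cfsg.Agent.Omega.FFThm (ElemM OffM NoOverM NatKM ActsSL relIndex_le_iff)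
open Cfsg.Agent.Omega.NatPair (ap ap_mul ap_one ap_inv_ap ap_zero' ap_one' ext2 exists_ap)
open Cfsg.Agent.Omega.NOThreeL.NF.NatR (Const ap_up ap_lo)
open Cfsg.Agent.Omega.NO3S.SOne.NatD
open Cfsg.Agent.Lib.SL2Mat
open scoped commutatorElement Pointwise

universe u

variable {G : Type u} [Group G]

/-- the Weyl element -/
def ww (F : Type) [Field F] : Matrix.SpecialLinearGroup (Fin 2) F := wm 1 one_ne_zero

section mat

variable {F : Type} [Field F]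

theorem ap_ww (x : Fin 2 → F) : ap (ww F) x = ![x 1, - x 0] := by
  refine ext2 ?_ ?_
  · rw [ap_zero']; simp [ww]
  · rw [ap_one']; simp [ww]

theorem ww_up (c : F) : ww F * up c * (ww F)⁻¹ = lo (-c) := by
  rw [mul_inv_eq_iff_eq_mul]
  refine ext_ent ?_ ?_ ?_ ?_ <;> simp [ent_mul, ww]

/-- a subgroup of `SL₂(F)` which contains `up c`, `lo c` is everything -/
theorem mem_of_up_lo (H : Subgroup (Matrix.SpecialLinearGroup (Fin 2) F)) (h1 : ∀ c, up c ∈ H) (h2 : ∀ c, lo c ∈ H)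
    (x : Matrix.SpecialLinearGroup (Fin 2) F) : x ∈ H := by
  have key : ∀ x : Matrix.SpecialLinearGroup (Fin 2) F, ent x 1 0 ≠ 0 → x ∈ H := by
    intro x hx
    rw [eq_up_lo_up x hx]
    exact mul_mem (mul_mem (h1 _) (h2 _)) (h1 _)
  by_cases hx : ent x 1 0 = 0
  · have h3 : ent x 1 1 ≠ 0 := by
      intro h4
      have h5 := det_eq x
      rw [hx, h4] at h5
      simp at h5
    have h4 : ent (x * lo 1) 1 0 ≠ 0 := by
      rw [ent_mul, hx]
      simpa using h3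
    have h5 := mul_mem (key _ h4) (inv_mem (h2 1))
    rwa [mul_inv_cancel_right] at h5
  · exact key x hx

end mat

/-- **The output of [O].** -/
structure OutO (P U A R Y W K : Subgroup G) (x : G) (F : Type) [Field F] (f : G → Fin 2 → F) : Prop where
  xP : x ∈ P
  W_eq : W = R ⊔ cj x R
  RU : R ≤ U
  WU : W ≤ U
  PW : P ≤ normalizer (W : Set G)
  AK : A ≤ K
  KP : K ≤ P
  PK : P ≤ normalizer (K : Set G)
  comm : ∀ a ∈ A, ∀ y ∈ Y, a * y * a⁻¹ * y⁻¹ ∈ R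
  cc : ∀ y ∈ Y, y ∉ centralizer (A : Set G) → ∀ r ∈ R, ∃ a ∈ A, a * y * a⁻¹ * y⁻¹ = r
  commK : ∀ g ∈ K, ∀ y ∈ Y, g * y * g⁻¹ * y⁻¹ ∈ W
  mul : ∀ v ∈ W, ∀ w ∈ W, f (v * w) = f v + f w
  inj : ∀ v ∈ W, f v = 0 → v = 1
  sur : ∀ y : Fin 2 → F, ∃ v ∈ W, f v = y
  line : ∀ v ∈ W, v ∈ R ↔ f v 1 = 0
  upa : ∀ a ∈ A, ∃ c : F, ∀ v ∈ W, f (a * v * a⁻¹) = ap (up c) (f v)
  ups : ∀ c : F, ∃ a ∈ A, ∀ v ∈ W, f (a * v * a⁻¹) = ap (up c) (f v)
  act : ∀ g ∈ K, ∃ B : Matrix.SpecialLinearGroup (Fin 2) F, ∀ v ∈ W, f (g * v * g⁻¹) = ap B (f v)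
  full : ∀ B : Matrix.SpecialLinearGroup (Fin 2) F, ∃ g ∈ A ⊔ cj x A, ∀ v ∈ W, f (g * v * g⁻¹) = ap B (f v)
  BK : ∀ g ∈ K, ∃ b ∈ A ⊔ cj x A, b⁻¹ * g ∈ centralizer (Y : Set G)
  KU : ∀ g ∈ K, g ∈ centralizer (U : Set G) → g ∈ centralizer (Y : Set G)
  split : ∀ y ∈ Y, ∃ w ∈ W, ∃ c ∈ Y ⊓ centralizer (K : Set G), y = w * c
  dis : W ⊓ centralizer (K : Set G) = ⊥

namespace InO

variable {F : Type} [Field F] {T P U D A V R Y : Subgroup G} {M : NatKM F T P U D 1}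

theorem one_eq (A : Matrix.SpecialLinearGroup (Fin 2) F) :
    (Pi.mulSingle 0 A : Fin 1 → Matrix.SpecialLinearGroup (Fin 2) F) = fun _ => A := by
  funext i
  rw [Subsingleton.elim i 0, Pi.mulSingle_eq_same]

theorem const_mul (A B : Matrix.SpecialLinearGroup (Fin 2) F) :
    ((fun _ => A : Fin 1 → Matrix.SpecialLinearGroup (Fin 2) F) * fun _ => B) = fun _ => A * B := rfl

theorem const_inv (A : Matrix.SpecialLinearGroup (Fin 2) F) :
    ((fun _ => A : Fin 1 → Matrix.SpecialLinearGroup (Fin 2) F))⁻¹ = fun _ => A⁻¹ := rfl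

theorem out [Finite G] [Finite F] (h : InO T P U D A V R Y) (o : One M A 0) (hT : Syl T P) :
    ∃ (W K : Subgroup G) (x : G), OutO P U A R Y W K x F (fun g => M.e g 0) := by
  have hA := h.amb
  have AP : A ≤ P := h.AT.trans hA.SP
  have RU := h.RU
  -- the Weyl element
  obtain ⟨x, hx, hxw⟩ := M.lift fun _ => ww F
  have hxi := act_inv (M := M) hA hx hxw
  set W : Subgroup G := R ⊔ cj x R with hW
  have cjU : ∀ {g : G}, g ∈ P → cj g U = U := fun hg => cj_eq_of_mem_normalizer (hA.PV hg)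
  have cjY : ∀ {g : G}, g ∈ P → cj g Y = Y := fun hg => cj_eq_of_mem_normalizer (h.PY hg)
  have RxU : cj x R ≤ U := by rw [← cjU hx]; exact cj_mono x RU
  have WU : W ≤ U := sup_le RU RxU
  have cmY : ∀ {g y : G}, g ∈ P → y ∈ Y → g * y * g⁻¹ ∈ Y := fun hg hy => (mem_normalizer_iff.1 (h.PY hg) _).1 hy
  -- the elements of `W`
  have memW : ∀ w ∈ W, ∃ r ∈ R, ∃ r' ∈ R, w = r * (x * r' * x⁻¹) := by
    intro w hw
    have hc : cj x R ≤ centralizer (R : Set G) := fun c hc =>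
      mem_centralizer_iff.2 fun r hr => h.ab r (h.UY (RU hr)) c (h.UY (RxU hc))
    have h5 : (w : G) ∈ ((R ⊔ cj x R : Subgroup G) : Set G) := hw
    rw [Cfsg.Agent.PLocal.ElemAbSup.coe_sup_of_le_centralizer hc] at h5
    obtain ⟨r, hr, c, hc', e⟩ := Set.mem_mul.1 h5
    refine ⟨r, hr, x⁻¹ * c * x, mem_cj.1 hc', ?_⟩
    rw [← e]; group
  have eRx : ∀ r ∈ R, M.e (x * r * x⁻¹) 0 = ![0, - M.e r 0 0] := by
    intro r hr
    rw [hxw.1 r (RU hr) 0, ap_ww, h.e_R o hr]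
  have ew : ∀ r ∈ R, ∀ r' ∈ R, M.e (r * (x * r' * x⁻¹)) 0 = ![M.e r 0 0, - M.e r' 0 0] := by
    intro r hr r' hr'
    rw [M.mul _ (RU hr) _ (hA.cm hx (RU hr')), Pi.add_apply, eRx r' hr']
    exact ext2 (by simp) (by simp [h.e_R o hr])
  have hinj : ∀ w ∈ W, M.e w 0 = 0 → w = 1 := by
    intro w hw h0
    obtain ⟨r, hr, r', hr', rfl⟩ := memW w hw
    rw [ew r hr r' hr'] at h0
    have h1 : M.e r 0 0 = 0 := congrFun h0 0
    have h2 : - M.e r' 0 0 = 0 := congrFun h0 1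
    rw [h.R_D o hr h1, h.R_D o hr' (neg_eq_zero.1 h2)]; group
  have hsur : ∀ y : Fin 2 → F, ∃ w ∈ W, M.e w 0 = y := by
    intro y
    obtain ⟨r, hr, e1⟩ := h.R_sur o (y 0)
    obtain ⟨r', hr', e2⟩ := h.R_sur o (- y 1)
    refine ⟨r * (x * r' * x⁻¹), mul_mem (mem_sup_left hr) (mem_sup_right (conj_mem_iff.2 hr')), ?_⟩
    rw [ew r hr r' hr', e1, e2]
    exact ext2 (by simp) (by simp)
  -- `U = W D`
  have UWD : ∀ u ∈ U, ∃ w ∈ W, ∃ d ∈ D, u = w * d := by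
    intro u hu
    obtain ⟨w, hw, e1⟩ := hsur (M.e u 0)
    refine ⟨w, hw, w⁻¹ * u, ?_, by group⟩
    rw [← M.ker _ (mul_mem (inv_mem (WU hw)) hu), M.mul _ (inv_mem (WU hw)) _ hu, e_inv (WU hw)]
    funext i
    rw [Subsingleton.elim i 0, Pi.add_apply, Pi.neg_apply, e1]
    exact neg_add_cancel _
  -- `B₀ = ⟨A, A^x⟩` acts as `SL₂(F)`
  set B₀ : Subgroup G := A ⊔ cj x A with hB
  have AxP : cj x A ≤ P := by
    have e : cj x P = P := cj_eq_of_mem_normalizer (Subgroup.le_normalizer hx)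
    rw [← e]; exact cj_mono x AP
  have BP : B₀ ≤ P := sup_le AP AxP
  have hup : ∀ c, ∃ a ∈ A, ActsSL M.e U D a fun _ => up c := by
    intro c
    obtain ⟨a, ha, hac⟩ := o.ex c
    rw [one_eq] at hac
    exact ⟨a, ha, hac⟩
  have hup' : ∀ a ∈ A, ∃ c, ActsSL M.e U D a fun _ => up c := by
    intro a ha
    obtain ⟨c, hac⟩ := o.acts a ha
    rw [one_eq] at hac
    exact ⟨c, hac⟩
  have hlo : ∀ c, ∃ a ∈ cj x A, ActsSL M.e U D a fun _ => lo c := by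
    intro c
    obtain ⟨a, ha, hac⟩ := hup (-c)
    refine ⟨x * a * x⁻¹, conj_mem_iff.2 ha, ?_⟩
    have h1 := act_mul (M := M) hA (inv_mem hx) (act_mul (M := M) hA (AP ha) hxw hac) hxi
    rw [const_mul, const_inv, const_mul, ww_up, neg_neg] at h1
    exact h1
  have hfull : ∀ B : Matrix.SpecialLinearGroup (Fin 2) F, ∃ b ∈ B₀, ActsSL M.e U D b fun _ => B := by
    let H : Subgroup (Matrix.SpecialLinearGroup (Fin 2) F) :=
      { carrier := {B | ∃ b ∈ B₀, ActsSL M.e U D b fun _ => B}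
        mul_mem' := by
          rintro B C ⟨b, hb, h1⟩ ⟨c, hc, h2⟩
          exact ⟨b * c, mul_mem hb hc, act_mul (M := M) hA (BP hc) h1 h2⟩
        one_mem' := ⟨1, one_mem _, act_cent (M := M) hA.DV (one_mem _)⟩
        inv_mem' := by
          rintro B ⟨b, hb, h1⟩
          exact ⟨b⁻¹, inv_mem hb, act_inv (M := M) hA (BP hb) h1⟩ }
    intro B
    refine mem_of_up_lo H (fun c => ?_) (fun c => ?_) B
    · obtain ⟨a, ha, hac⟩ := hup c
      exact ⟨a, mem_sup_left ha, hac⟩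
    · obtain ⟨a, ha, hac⟩ := hlo c
      exact ⟨a, mem_sup_right ha, hac⟩
  -- conjugates of `A`
  have hconj : ∀ g ∈ P, ∀ a ∈ A, ∃ B : Matrix.SpecialLinearGroup (Fin 2) F, ActsSL M.e U D (g * a * g⁻¹) fun _ => B := by
    intro g hg a ha
    obtain ⟨c, hac⟩ := hup' a ha
    obtain ⟨B, hBa⟩ := M.norm g hg a (AP ha) _ hac.1
    refine ⟨B 0, fun v hv i => ?_, fun d hd => ?_⟩
    · rw [hBa v hv i, Subsingleton.elim i 0]
    · have h1 : g⁻¹ * d * g⁻¹⁻¹ ∈ D := (mem_normalizer_iff.1 (hA.PD (inv_mem hg)) d).1 hd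
      have h2 := hac.2 _ h1
      calc g * a * g⁻¹ * d = g * (a * (g⁻¹ * d * g⁻¹⁻¹)) * g⁻¹ := by group
        _ = g * (g⁻¹ * d * g⁻¹⁻¹ * a) * g⁻¹ := by rw [h2]
        _ = d * (g * a * g⁻¹) := by group
  -- `[U, B₀] ≤ W`
  have hBW : ∀ b ∈ B₀, ∀ u ∈ U, b * u * b⁻¹ * u⁻¹ ∈ W := by
    let H : Subgroup G :=
      { carrier := {g | g ∈ P ∧ ∀ u ∈ U, g * u * g⁻¹ * u⁻¹ ∈ W}
        mul_mem' := by
          rintro a b ⟨ha, ha1⟩ ⟨hb, hb1⟩
          refine ⟨mul_mem ha hb, fun u hu => ?_⟩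
          have h1 := mul_mem (ha1 _ (hA.cm hb hu)) (hb1 u hu)
          have e : a * (b * u * b⁻¹) * a⁻¹ * (b * u * b⁻¹)⁻¹ * (b * u * b⁻¹ * u⁻¹) =
            a * b * u * (a * b)⁻¹ * u⁻¹ := by group
          rwa [e] at h1
        one_mem' := ⟨one_mem _, fun u _ => by simp⟩
        inv_mem' := by
          rintro a ⟨ha, ha1⟩
          refine ⟨inv_mem ha, fun u hu => ?_⟩
          have h1 := inv_mem (ha1 _ (hA.cm (inv_mem ha) hu))
          have e : (a * (a⁻¹ * u * a⁻¹⁻¹) * a⁻¹ * (a⁻¹ * u * a⁻¹⁻¹)⁻¹)⁻¹ = a⁻¹ * u * a⁻¹⁻¹ * u⁻¹ := by group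
          rwa [e] at h1 }
    have h1 : B₀ ≤ H := by
      refine sup_le (fun a ha => ⟨AP ha, fun u hu => mem_sup_left (h.comm_Y o ha (h.UY hu))⟩) fun a ha =>
        ⟨AxP ha, fun u hu => mem_sup_right ?_⟩
      rw [mem_cj] at ha ⊢
      have h2 := h.comm_Y o ha (h.UY (hA.cm (inv_mem hx) hu))
      have e : x⁻¹ * a * x * (x⁻¹ * u * x⁻¹⁻¹) * (x⁻¹ * a * x)⁻¹ * (x⁻¹ * u * x⁻¹⁻¹)⁻¹ =
        x⁻¹ * (a * u * a⁻¹ * u⁻¹) * x := by group
      rwa [e] at h2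
    exact fun b hb => (h1 hb).2
  have hgW : ∀ g ∈ P, ∀ a ∈ A, ∀ u ∈ U, (g * a * g⁻¹) * u * (g * a * g⁻¹)⁻¹ * u⁻¹ ∈ W := by
    intro g hg a ha u hu
    obtain ⟨B, hga⟩ := hconj g hg a ha
    obtain ⟨b, hb, hbB⟩ := hfull B
    have hgP : g * a * g⁻¹ ∈ P := mul_mem (mul_mem hg (AP ha)) (inv_mem hg)
    rw [conj_eq (M := M) hA hgP (BP hb) hga hbB hu]
    exact hBW b hb u hu
  -- `P` normalises `W`
  have hRg : ∀ g ∈ P, ∀ r ∈ R, g * r * g⁻¹ ∈ W := by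
    intro g hg r hr
    obtain ⟨u, hu, -, h1, -⟩ := h.exists_u
    obtain ⟨a, ha, rfl⟩ := h1 r hr
    have h2 := hgW g hg a ha _ (hA.cm hg hu)
    have e : g * a * g⁻¹ * (g * u * g⁻¹) * (g * a * g⁻¹)⁻¹ * (g * u * g⁻¹)⁻¹ =
      g * (a * u * a⁻¹ * u⁻¹) * g⁻¹ := by group
    rwa [e] at h2
  have hWg : ∀ g ∈ P, ∀ w ∈ W, g * w * g⁻¹ ∈ W := by
    intro g hg w hw
    obtain ⟨r, hr, r', hr', rfl⟩ := memW w hw
    have h1 := mul_mem (hRg g hg r hr) (hRg (g * x) (mul_mem hg hx) r' hr')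
    have e : g * r * g⁻¹ * (g * x * r' * (g * x)⁻¹) = g * (r * (x * r' * x⁻¹)) * g⁻¹ := by group
    rwa [e] at h1
  have PW : P ≤ normalizer (W : Set G) := fun g hg => mem_normalizer_iff.2 fun w => ⟨hWg g hg w, fun hw => by
    have h1 := hWg g⁻¹ (inv_mem hg) _ hw
    have e : g⁻¹ * (g * w * g⁻¹) * g⁻¹⁻¹ = w := by group
    rwa [e] at h1⟩
  -- `K`
  set K : Subgroup G := ⨆ g : P, cj (g : G) A with hK
  have AK : A ≤ K := by
    have h1 := le_iSup (fun g : P => cj (g : G) A) 1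
    simpa only [OneMemClass.coe_one, cj_one] using h1
  have AgK : ∀ g ∈ P, cj g A ≤ K := fun g hg => le_iSup (fun g : P => cj (g : G) A) ⟨g, hg⟩
  have KP : K ≤ P := iSup_le fun g =>
    (cj_mono _ AP).trans (cj_eq_of_mem_normalizer (Subgroup.le_normalizer g.2)).le
  have cjK : ∀ g ∈ P, cj g K ≤ K := by
    intro g hg
    rw [hK, cj, Subgroup.map_iSup]
    refine iSup_le fun y => ?_
    have e : Subgroup.map (MulAut.conj g).toMonoidHom (cj (y : G) A) = cj (g * y : G) A := cj_cj g y A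
    rw [e]
    exact AgK _ (mul_mem hg y.2)
  have PK : P ≤ normalizer (K : Set G) := by
    intro g hg
    rw [mem_normalizer_iff_cj]
    refine le_antisymm (cjK g hg) ?_
    have h1 := cj_mono g (cjK g⁻¹ (inv_mem hg))
    rwa [cj_cj, mul_inv_cancel, cj_one] at h1
  have BK : B₀ ≤ K := sup_le AK (AgK x hx)
  -- `[Y, K] ≤ W`
  have hKW : ∀ g ∈ K, ∀ y ∈ Y, g * y * g⁻¹ * y⁻¹ ∈ W := by
    let H : Subgroup G :=
      { carrier := {g | g ∈ P ∧ ∀ u ∈ Y, g * u * g⁻¹ * u⁻¹ ∈ W}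
        mul_mem' := by
          rintro a b ⟨ha, ha1⟩ ⟨hb, hb1⟩
          refine ⟨mul_mem ha hb, fun u hu => ?_⟩
          have h1 := mul_mem (ha1 _ (cmY hb hu)) (hb1 u hu)
          have e : a * (b * u * b⁻¹) * a⁻¹ * (b * u * b⁻¹)⁻¹ * (b * u * b⁻¹ * u⁻¹) =
            a * b * u * (a * b)⁻¹ * u⁻¹ := by group
          rwa [e] at h1
        one_mem' := ⟨one_mem _, fun u _ => by simp⟩
        inv_mem' := by
          rintro a ⟨ha, ha1⟩
          refine ⟨inv_mem ha, fun u hu => ?_⟩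
          have h1 := inv_mem (ha1 _ (cmY (inv_mem ha) hu))
          have e : (a * (a⁻¹ * u * a⁻¹⁻¹) * a⁻¹ * (a⁻¹ * u * a⁻¹⁻¹)⁻¹)⁻¹ = a⁻¹ * u * a⁻¹⁻¹ * u⁻¹ := by group
          rwa [e] at h1 }
    have h1 : K ≤ H := by
      refine iSup_le fun g a ha => ⟨KP (AgK g g.2 ha), fun y hy => ?_⟩
      rw [mem_cj] at ha
      have h2 := hRg g g.2 _ (h.comm_Y o ha (cmY (inv_mem g.2) hy))
      have e : (g : G) * ((g : G)⁻¹ * a * g * ((g : G)⁻¹ * y * (g : G)⁻¹⁻¹) * ((g : G)⁻¹ * a * g)⁻¹ *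
        ((g : G)⁻¹ * y * (g : G)⁻¹⁻¹)⁻¹) * (g : G)⁻¹ = a * y * a⁻¹ * y⁻¹ := by group
      rwa [e] at h2
    exact fun g hg => (h1 hg).2
  -- `C_K(U) ≤ C(Y)`
  have hKU : ∀ g ∈ K, g ∈ centralizer (U : Set G) → g ∈ centralizer (Y : Set G) := by
    intro g hg hgU
    have hgP := KP hg
    have hodd : ∀ y ∈ Y, (g * g) * y = y * (g * g) := by
      intro y hy
      have h1 := WU (hKW g hg y hy)
      have h2 : g * (g * y * g⁻¹ * y⁻¹) = (g * y * g⁻¹ * y⁻¹) * g := (mem_centralizer_iff.1 hgU _ h1).symm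
      have h3 : (g * y * g⁻¹ * y⁻¹) * (g * y * g⁻¹ * y⁻¹) = 1 := h.sq _ (h.UY h1)
      have h4 : g * g * y * (g * g)⁻¹ * y⁻¹ = (g * (g * y * g⁻¹ * y⁻¹) * g⁻¹) * (g * y * g⁻¹ * y⁻¹) := by group
      rw [h2, mul_inv_cancel_right, h3] at h4
      exact mul_inv_eq_iff_eq_mul.1 (mul_inv_eq_one.1 h4)
    obtain ⟨n, hn, a, ha⟩ := NOThreeL.Low.exists_odd_pow g
    obtain ⟨p, hp, hpT⟩ := exists_conj_mem hT (pow_mem hgP n) (NOThreeL.Low.isPGroup_zpowers ha)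
    have h5 : p * g ^ n * p⁻¹ ∈ centralizer (U : Set G) := by
      rw [← cjU hp, ← cj_centralizer]
      exact conj_mem_iff.2 (pow_mem hgU n)
    have h6 := h.QY _ hpT h5
    rw [← cjY hp, ← cj_centralizer] at h6
    have h7 := conj_mem_iff.1 h6
    obtain ⟨t, rfl⟩ := hn
    have h8 : (g * g) ^ t ∈ centralizer (Y : Set G) := by
      have h9 : g * g ∈ centralizer (Y : Set G) := mem_centralizer_iff.2 fun y hy => (hodd y hy).symm
      exact pow_mem h9 t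
    have e : g = ((g * g) ^ t)⁻¹ * g ^ (2 * t + 1) := by
      rw [← pow_two, ← pow_mul, pow_succ]; group
    rw [e]
    exact mul_mem (inv_mem h8) h7
  -- the action of `K`
  have hKact : ∀ g ∈ K, ∃ B : Matrix.SpecialLinearGroup (Fin 2) F, ActsSL M.e U D g fun _ => B := by
    let H : Subgroup G :=
      { carrier := {g | g ∈ P ∧ ∃ B : Matrix.SpecialLinearGroup (Fin 2) F, ActsSL M.e U D g fun _ => B}
        mul_mem' := by
          rintro a b ⟨ha, B, h1⟩ ⟨hb, C, h2⟩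
          exact ⟨mul_mem ha hb, B * C, act_mul (M := M) hA hb h1 h2⟩
        one_mem' := ⟨one_mem _, 1, act_cent (M := M) hA.DV (one_mem _)⟩
        inv_mem' := by
          rintro a ⟨ha, B, h1⟩
          exact ⟨inv_mem ha, B⁻¹, act_inv (M := M) hA ha h1⟩ }
    have h1 : K ≤ H := by
      refine iSup_le fun g a ha => ⟨KP (AgK g g.2 ha), ?_⟩
      rw [mem_cj] at ha
      obtain ⟨B, hB1⟩ := hconj g g.2 _ ha
      have e : (g : G) * ((g : G)⁻¹ * a * g) * (g : G)⁻¹ = a := by group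
      rw [e] at hB1
      exact ⟨B, hB1⟩
    exact fun g hg => (h1 hg).2
  have hBKc : ∀ g ∈ K, ∃ b ∈ B₀, b⁻¹ * g ∈ centralizer (Y : Set G) := by
    intro g hg
    obtain ⟨B, hgB⟩ := hKact g hg
    obtain ⟨b, hb, hbB⟩ := hfull B
    exact ⟨b, hb, hKU _ (mul_mem (inv_mem (BK hb)) hg) (cent_of_same (M := M) hA (KP hg) (BP hb) hgB hbB)⟩
  -- `Y = W C_Y(K)`
  have DA : D ≤ centralizer (A : Set G) := by
    intro d hd
    rw [mem_centralizer_iff]
    intro a ha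
    obtain ⟨c, hac⟩ := hup' a ha
    exact hac.2 d hd
  have s1 : ∀ y ∈ Y, ∃ w ∈ W, ∃ c ∈ Y ⊓ centralizer (A : Set G), y = w * c := by
    intro y hy
    obtain ⟨u, hu, c, hc, rfl⟩ := h.split_U hy
    obtain ⟨w, hw, d, hd, rfl⟩ := UWD u hu
    exact ⟨w, hw, d * c, mul_mem ⟨h.UY (hA.DV hd), DA hd⟩ hc, by group⟩
  have s2 : ∀ y ∈ Y, ∃ w ∈ W, ∃ c ∈ Y ⊓ centralizer (cj x A : Subgroup G), y = w * c := by
    intro y hy
    obtain ⟨w, hw, c, hc, e⟩ := s1 _ (cmY (inv_mem hx) hy)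
    refine ⟨x * w * x⁻¹, hWg x hx w hw, x * c * x⁻¹, ⟨cmY hx hc.1, ?_⟩, ?_⟩
    · rw [← cj_centralizer]
      exact conj_mem_iff.2 hc.2
    · have e2 : y = x * (x⁻¹ * y * x⁻¹⁻¹) * x⁻¹ := by group
      rw [e2, e]; group
  have hsplit : ∀ y ∈ Y, ∃ w ∈ W, ∃ c ∈ Y ⊓ centralizer (K : Set G), y = w * c := by
    intro y hy
    obtain ⟨w, hw, c, hc, rfl⟩ := s1 y hy
    obtain ⟨w', hw', c', hc', e1⟩ := s2 c hc.1
    obtain ⟨r, hr, r', hr', rfl⟩ := memW w' hw'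
    set c'' : G := (x * r' * x⁻¹) * c' with hc''
    have e2 : c = r * c'' := by rw [e1, hc'']; group
    have hr'x : x * r' * x⁻¹ ∈ centralizer (cj x A : Subgroup G) := by
      rw [← cj_centralizer]
      exact conj_mem_iff.2 (h.RA hr')
    have h1 : c'' ∈ centralizer (cj x A : Subgroup G) := mul_mem hr'x hc'.2
    have h2 : c'' ∈ centralizer (A : Set G) := by
      have e3 : c'' = r⁻¹ * c := by rw [e2]; group
      rw [e3]
      exact mul_mem (inv_mem (h.RA hr)) hc.2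
    have h3 : c'' ∈ Y := mul_mem (cmY hx (h.UY (RU hr'))) hc'.1
    have h4 : c'' ∈ centralizer (K : Set G) := by
      rw [mem_centralizer_iff]
      intro g hg
      obtain ⟨b, hb, hbg⟩ := hBKc g hg
      have h5 : b * c'' = c'' * b := by
        have h6 : B₀ ≤ centralizer ({c''} : Set G) := by
          refine sup_le (fun a ha => ?_) fun a ha => ?_
          · exact mem_centralizer_singleton_iff.2 (mem_centralizer_iff.1 h2 a ha)
          · exact mem_centralizer_singleton_iff.2 (mem_centralizer_iff.1 h1 a ha)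
        exact mem_centralizer_singleton_iff.1 (h6 hb)
      have h7 : c'' * (b⁻¹ * g) = b⁻¹ * g * c'' := mem_centralizer_iff.1 hbg c'' h3
      calc g * c'' = b * (b⁻¹ * g * c'') := by group
        _ = b * (c'' * (b⁻¹ * g)) := by rw [h7]
        _ = (b * c'') * (b⁻¹ * g) := by group
        _ = (c'' * b) * (b⁻¹ * g) := by rw [h5]
        _ = c'' * g := by group
    refine ⟨w * r, mul_mem hw (mem_sup_left hr), c'', ⟨h3, h4⟩, ?_⟩
    rw [e2]; group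
  refine ⟨W, K, x, ?_⟩
  refine
    { xP := hx, W_eq := hW, RU := RU, WU := WU, PW := PW, AK := AK, KP := KP, PK := PK
      comm := fun a ha y hy => h.comm_Y o ha hy
      cc := fun y hy hyA => h.cc o hy hyA
      commK := hKW
      mul := fun v hv w hw => by rw [M.mul v (WU hv) w (WU hw)]; rfl
      inj := hinj, sur := hsur
      line := fun v hv => ⟨fun hr => h.e_R o hr, fun h0 => ?_⟩
      upa := fun a ha => ?_
      ups := fun c => ?_
      act := fun g hg => ?_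
      full := fun B => ?_
      BK := hBKc, KU := hKU, split := hsplit
      dis := ?_ }
  · obtain ⟨r, hr, r', hr', rfl⟩ := memW v hv
    rw [ew r hr r' hr'] at h0
    have h2 : - M.e r' 0 0 = 0 := h0
    rw [h.R_D o hr' (neg_eq_zero.1 h2)]
    have e : r * (x * 1 * x⁻¹) = r := by group
    rw [e]; exact hr
  · obtain ⟨c, hac⟩ := hup' a ha
    exact ⟨c, fun v hv => hac.1 v (WU hv) 0⟩
  · obtain ⟨a, ha, hac⟩ := hup c
    exact ⟨a, ha, fun v hv => hac.1 v (WU hv) 0⟩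
  · obtain ⟨B, hgB⟩ := hKact g hg
    exact ⟨B, fun v hv => hgB.1 v (WU hv) 0⟩
  · obtain ⟨b, hb, hbB⟩ := hfull B
    exact ⟨b, hb, fun v hv => hbB.1 v (WU hv) 0⟩
  · refine eq_bot_iff.2 fun w hw => mem_bot.2 (hinj w hw.1 ?_)
    have h1 : w ∈ centralizer (A : Set G) := centralizer_le (by exact_mod_cast AK) hw.2
    have h2 : w ∈ centralizer (cj x A : Subgroup G) := centralizer_le (by exact_mod_cast AgK x hx) hw.2
    have h3 : M.e w 0 1 = 0 := o.zero_of_cent (WU hw.1) h1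
    have h4 : x⁻¹ * w * x⁻¹⁻¹ ∈ centralizer (A : Set G) := by
      rw [← cj_centralizer, mem_cj] at h2
      rwa [inv_inv]
    have h5 : M.e (x⁻¹ * w * x⁻¹⁻¹) 0 1 = 0 := o.zero_of_cent (hA.cm (inv_mem hx) (WU hw.1)) h4
    have h6 := hxw.1 _ (hA.cm (inv_mem hx) (WU hw.1)) 0
    have e : x * (x⁻¹ * w * x⁻¹⁻¹) * x⁻¹ = w := by group
    rw [e, ap_ww, h5] at h6
    exact ext2 (congrFun h6 0) h3

end InO

end Cfsg.Agent.Omega.NOThreeL.RWide.ParA
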