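import Cfsg.Agent.Omega.NOThreeL.RWide.ParA.OneC

/-!
# `par` over `T`, active case (helper506 #27090), piece [O]: interface

* `ambD_of` : the ambient facts for `zl T P`, `cv T P` from `Syl T P`, `IsMinPar T P`, characteristic 2;
* `OutO.KC`, `OutO.PC`, `OutO.sup_eq` (`K ⊔ T = P`), `OutO.trW`, `OutO.splitC`, `OutO.djC`, `OutO.card_R`, `OutO.card_W` :
  the facts used by [B] (`Burn.burn`) with `Cc = Y ⊓ C(K)`.
-/

set_option autoImplicit false
set_option linter.unusedSectionVars false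

namespace Cfsg.Agent.Omega.NOThreeL.RWide.ParA

open Subgroup Cfsg Cfsg.Agent.ZN Cfsg.Agent.ZN.ChoiceBase Cfsg.Agent.Omega.MinPar
open Cfsg.Agent.MinSimple.MinParabolic
open Cfsg.Agent.ZN.ChoiceSit (Syl)
open Cfsg.Agent.Omega.FrameFF (cv)
open Cfsg.Agent.Omega.FFThm (ElemM OffM NoOverM NatKM SymKM ConclM StmtM ActsSL relIndex_le_iff)
open Cfsg.Agent.Omega.NatPair (ap ap_mul ap_one ap_inv_ap ap_zero' ap_one' ext2 exists_ap exists_ap_e)
open Cfsg.Agent.Omega.NOThreeL.NF.NatR (Const ap_up ap_lo)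
open Cfsg.Agent.Omega.NO3S.SOne.NatD
open Cfsg.Agent.Lib.SL2Mat
open scoped commutatorElement Pointwise

universe u

variable {G : Type u} [Group G]

/-! ### The ambient facts -/

/-- **the ambient facts over `T`** -/
theorem ambD_of [Finite G] {F : Type} [Field F] {T P : Subgroup G} {k : ℕ} (hT : Syl T P) (hP : IsMinPar T P)
    (hc : P ⊓ centralizer (o2 P : Set G) ≤ o2 P) (M : NatKM F T P (zl T P) (cv T P) k) :
    AmbD T P (zl T P) (cv T P) := by
  classical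
  have hSyl := ChoiceSit.syl_not_dvd hT
  have h2T : IsPGroup 2 T := hT.2.1
  have hPV : P ≤ normalizer (zl T P : Set G) := MinSimple.VModule.le_normalizer_zl _ _
  have hPD : P ≤ normalizer (cv T P : Set G) := P_cv _ _
  have hDV : cv T P ≤ zl T P := inf_le_left
  have hsq : ∀ x ∈ zl T P, x * x = 1 := fun x hx => by
    rw [← pow_two]; exact MinSimple.VModule.zl_sq hP.le h2T hSyl hc x hx
  refine ⟨hP.le, hPV, hPD, hDV, MinSimple.VModule.zl_comm hP.le h2T hSyl hc, hsq, fun g hg hg1 hg2 => ?_⟩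
  set V := zl T P with hV
  set D := cv T P with hD
  set K := K0 P V D hPV with hK
  have hgK : g ∈ K := ⟨hg, hg1, hg2⟩
  have hKP : K ≤ P := fun x hx => hx.1
  have hKn : P ≤ normalizer (K : Set G) := le_normalizer_K0 hPV hPD
  by_cases hk : k = 0
  · rw [mem_centralizer_iff]
    intro v hv
    refine (hg2 v ((M.ker v hv).1 ?_)).symm
    funext i
    exact absurd i.2 (by omega)
  have hi0 : 0 < k := Nat.pos_of_ne_zero hk
  have i : Fin k := ⟨0, hi0⟩
  rcases hP.sup_eq_or_inf_le (p := 2) h2T hSyl hKP hKn with h1 | h1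
  · exfalso
    obtain ⟨p, hp, hac, -⟩ := M.lift (Pi.mulSingle i (lo 1))
    have hp' : p ∈ ((K ⊔ T : Subgroup G) : Set G) := by
      rw [h1]; exact hp
    rw [sup_comm, coe_mul_of_left_le_normalizer_right _ _ (hP.le.trans hKn)] at hp'
    obtain ⟨s, hs, x, hx, rfl⟩ := hp'
    obtain ⟨σ, hσ⟩ := M.line s hs
    obtain ⟨v, hv, hvi, hvj⟩ := exists_pt M i ![1, 0]
    have hxv : M.e (x * v * x⁻¹) = M.e v :=
      (e_eq_iff (M := M) ((mem_normalizer_iff.1 (hPV hx.1) v).1 hv) hv).2 (hx.2.1 v hv)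
    have hxvV : x * v * x⁻¹ ∈ V := (mem_normalizer_iff.1 (hPV hx.1) v).1 hv
    have h2 := hac v hv i
    have e1 : s * x * v * (s * x)⁻¹ = s * (x * v * x⁻¹) * s⁻¹ := by group
    dsimp only at h2
    rw [e1, Pi.mulSingle_eq_same, hvi, ap_lo] at h2
    have h3 : M.e (s * (x * v * x⁻¹) * s⁻¹) i 1 = 0 := by
      have h4 := (hσ _ hxvV (σ.symm i)).2 (by
        rw [hxv]
        by_cases h5 : σ.symm i = i
        · rw [h5, hvi]; rfl
        · rw [hvj _ h5]; rfl)
      rwa [Equiv.apply_symm_apply] at h4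
    rw [h2] at h3
    simp at h3
  · have hsqK : ∀ x ∈ K, x * x ∈ centralizer (V : Set G) := by
      rintro x ⟨hx, hx1, hx2⟩
      rw [mem_centralizer_iff]
      intro v hv
      set d := x * v * x⁻¹ * v⁻¹ with hd
      have hdD : d ∈ D := hx1 v hv
      have h2 : x * v * x⁻¹ = d * v := by rw [hd]; group
      have h3 : x * d * x⁻¹ = d := by rw [hx2 d hdD, mul_inv_cancel_right]
      have h4 : x * x * v * (x * x)⁻¹ = v := by
        calc x * x * v * (x * x)⁻¹ = x * (x * v * x⁻¹) * x⁻¹ := by group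
          _ = x * (d * v) * x⁻¹ := by rw [h2]
          _ = x * d * x⁻¹ * (x * v * x⁻¹) := by group
          _ = v := by rw [h3, h2, ← mul_assoc, hsq d (hDV hdD), one_mul]
      exact (mul_inv_eq_iff_eq_mul.1 h4).symm
    have hcP : ∀ p ∈ P, ∀ x, x ∈ centralizer (V : Set G) → p * x * p⁻¹ ∈ centralizer (V : Set G) := by
      intro p hp x hx
      have e : cj p V = V := cj_eq_of_mem_normalizer (hPV hp)
      rw [← e, ← cj_centralizer]
      exact conj_mem_iff.2 hx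
    have h2core : ∀ x ∈ K, IsPGroup 2 (zpowers x) → x ∈ centralizer (V : Set G) := by
      intro x hx hx2
      obtain ⟨p, hp, hpx⟩ := exists_conj_mem hT (hKP hx) hx2
      have h3 : p * x * p⁻¹ ∈ centralizer (V : Set G) :=
        MinSimple.VModule.o2_le_centralizer_zl hP.le h2T hSyl hc (h1 ⟨hpx, (mem_normalizer_iff.1 (hKn hp) x).1 hx⟩)
      have h4 := hcP p⁻¹ (inv_mem hp) _ h3
      have e : p⁻¹ * (p * x * p⁻¹) * p⁻¹⁻¹ = x := by group
      rwa [e] at h4
    obtain ⟨n, hn, a, ha⟩ := NOThreeL.Low.exists_odd_pow g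
    have h5 := h2core (g ^ n) (pow_mem hgK n) (NOThreeL.Low.isPGroup_zpowers ha)
    obtain ⟨t, rfl⟩ := hn
    have h6 : (g * g) ^ t ∈ centralizer (V : Set G) := pow_mem (hsqK g hgK) t
    have e : g = ((g * g) ^ t)⁻¹ * g ^ (2 * t + 1) := by
      rw [← pow_two, ← pow_mul, pow_succ]; group
    rw [e]
    exact mul_mem (inv_mem h6) h5

/-! ### The facts used by [B] -/

namespace OutO

variable {P U A R Y W K : Subgroup G} {x : G} {F : Type} [Field F] {f : G → Fin 2 → F}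
  (h : OutO P U A R Y W K x F f)
include h

theorem RW : R ≤ W := by
  rw [h.W_eq]; exact le_sup_left

theorem KC : K ≤ centralizer ((Y ⊓ centralizer (K : Set G) : Subgroup G) : Set G) := fun g hg =>
  mem_centralizer_iff.2 fun _ hc => (mem_centralizer_iff.1 hc.2 g hg).symm

theorem PC (hY : P ≤ normalizer (Y : Set G)) : P ≤ normalizer ((Y ⊓ centralizer (K : Set G) : Subgroup G) : Set G) := by
  intro g hg
  have h1 : cj g (centralizer (K : Set G)) = centralizer (K : Set G) := by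
    rw [cj_centralizer, cj_eq_of_mem_normalizer (h.PK hg)]
  rw [mem_normalizer_iff_cj, cj_inf, h1, cj_eq_of_mem_normalizer (hY hg)]

theorem splitC : Y ≤ W ⊔ (Y ⊓ centralizer (K : Set G)) := by
  intro y hy
  obtain ⟨w, hw, c, hc, rfl⟩ := h.split y hy
  exact mul_mem (mem_sup_left hw) (mem_sup_right hc)

theorem djC : W ⊓ (Y ⊓ centralizer (K : Set G)) = ⊥ := by
  refine eq_bot_iff.2 fun w hw => ?_
  rw [← h.dis]
  exact ⟨hw.1, hw.2.2⟩

/-- `K ⊔ T = P` -/
theorem sup_eq [Finite G] {T : Subgroup G} (hT : Syl T P) (hP : IsMinPar T P) (AT : A ≤ T)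
    (hU : o2 P ≤ centralizer (U : Set G)) (hA : ¬ A ≤ centralizer (U : Set G)) : K ⊔ T = P := by
  have : Fact (Nat.Prime 2) := ⟨Nat.prime_two⟩
  rcases hP.sup_eq_or_inf_le (p := 2) hT.2.1 (ChoiceSit.syl_not_dvd hT) h.KP h.PK with h1 | h1
  · exact h1
  · exact absurd (((le_inf AT h.AK).trans h1).trans hU) hA

theorem map_one : f 1 = 0 := by
  have h1 := h.mul 1 (one_mem _) 1 (one_mem _)
  rw [one_mul] at h1
  exact left_eq_add.1 h1

theorem map_inv {v : G} (hv : v ∈ W) : f v⁻¹ = - f v := by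
  have h1 := h.mul v hv v⁻¹ (inv_mem hv)
  rw [mul_inv_cancel, h.map_one] at h1
  exact (neg_eq_of_add_eq_zero_right h1.symm).symm

theorem f_inj {v w : G} (hv : v ∈ W) (hw : w ∈ W) (e : f v = f w) : v = w := by
  refine mul_inv_eq_one.1 (h.inj _ (mul_mem hv (inv_mem hw)) ?_)
  rw [h.mul v hv _ (inv_mem hw), h.map_inv hw, e, add_neg_cancel]

theorem AP : A ≤ P := h.AK.trans h.KP

theorem BK' : A ⊔ cj x A ≤ K := by
  have e : cj x K = K := cj_eq_of_mem_normalizer (h.PK h.xP)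
  refine sup_le h.AK ?_
  rw [← e]
  exact cj_mono x h.AK

/-- `K` is transitive on `W#` -/
theorem trW : ∀ v ∈ W, v ≠ 1 → ∀ w ∈ W, w ≠ 1 → ∃ k ∈ K, k * v * k⁻¹ = w := by
  intro v hv hv1 w hw hw1
  obtain ⟨A₁, h1⟩ := exists_ap_e (x := f v) fun e => hv1 (h.inj v hv e)
  obtain ⟨A₂, h2⟩ := exists_ap_e (x := f w) fun e => hw1 (h.inj w hw e)
  obtain ⟨g, hg, hgv⟩ := h.full (A₂ * A₁⁻¹)
  refine ⟨g, h.BK' hg, ?_⟩
  refine h.f_inj ((mem_normalizer_iff.1 (h.PW (h.KP (h.BK' hg))) v).1 hv) hw ?_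
  rw [hgv v hv, ← h1, ap_mul, ap_inv_ap, h2]

theorem card_F [Finite F] : Nat.card W = Nat.card F ^ 2 := by
  classical
  let φ : W → (Fin 2 → F) := fun w => f w
  have hb : Function.Bijective φ := by
    refine ⟨fun a b e => Subtype.ext (h.f_inj a.2 b.2 e), fun y => ?_⟩
    obtain ⟨v, hv, e⟩ := h.sur y
    exact ⟨⟨v, hv⟩, e⟩
  rw [Nat.card_congr (Equiv.ofBijective φ hb), Nat.card_fun]
  simp

theorem card_R [Finite F] : Nat.card R = Nat.card F := by
  classical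
  let φ : R → F := fun r => f r 0
  have hb : Function.Bijective φ := by
    refine ⟨fun a b e => Subtype.ext (h.f_inj (h.RW a.2) (h.RW b.2) (ext2 e ?_)), fun y => ?_⟩
    · rw [(h.line a (h.RW a.2)).1 a.2, (h.line b (h.RW b.2)).1 b.2]
    · obtain ⟨v, hv, e⟩ := h.sur ![y, 0]
      exact ⟨⟨v, (h.line v hv).2 (by rw [e]; rfl)⟩, by change f v 0 = y; rw [e]; rfl⟩
  exact Nat.card_congr (Equiv.ofBijective φ hb)

theorem card_W [Finite F] : Nat.card W = Nat.card R ^ 2 := by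
  rw [h.card_F, h.card_R]

/-- `C_P(A) ∩ W = R` -/
theorem inf_cent : W ⊓ centralizer (A : Set G) ≤ R := by
  intro w hw
  obtain ⟨a, ha, hac⟩ := h.ups 1
  have h1 : a * w * a⁻¹ = w := mul_inv_eq_iff_eq_mul.2 (mem_centralizer_iff.1 hw.2 a ha)
  have h2 := hac w hw.1
  rw [h1, ap_up] at h2
  have h3 := congrFun h2 0
  refine (h.line w hw.1).2 ?_
  have h4 : f w 0 = f w 0 + 1 * f w 1 := h3
  rw [one_mul] at h4
  exact left_eq_add.1 h4

end OutO

/-! ### The plug -/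

/-- **The input of [O] over `U = zl T P`** without the ambient facts. -/
structure InT (T P A V R Y : Subgroup G) : Prop where
  syl : Syl T P
  par : IsMinPar T P
  char2 : P ⊓ centralizer (o2 P : Set G) ≤ o2 P
  AT : A ≤ T
  off : OffM (zl T P) A
  ab : ∀ x ∈ Y, ∀ y ∈ Y, x * y = y * x
  sq : ∀ x ∈ Y, x * x = 1
  UY : zl T P ≤ Y
  VY : V ≤ Y
  PY : P ≤ normalizer (Y : Set G)
  QY : ∀ g ∈ T, g ∈ centralizer (zl T P : Set G) → g ∈ centralizer (Y : Set G)
  th : (centralizer (A : Set G)).relIndex Y ≤ (centralizer (Y : Set G)).relIndex A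
  RV : R ≤ V
  VR : ¬ V ≤ R
  RT : T ≤ normalizer (R : Set G)
  RA : R ≤ centralizer (A : Set G)
  AV : ∀ a ∈ A, ∀ v ∈ V, a * v * a⁻¹ * v⁻¹ ∈ R
  vA : ∀ v ∈ V, v ∉ R → ∀ r ∈ R, ∃ a ∈ A, a * v * a⁻¹ * v⁻¹ = r
  aV : ∀ a ∈ A, a ∉ centralizer (V : Set G) → ∀ r ∈ R, ∃ v ∈ V, a * v * a⁻¹ * v⁻¹ = r
  card : (centralizer (V : Set G)).relIndex A ≤ (centralizer (A : Set G)).relIndex V
  nD : ¬ R ≤ cv T P

/-- the input gives `InO` over the natural module -/
theorem InT.inO [Finite G] {T P A V R Y : Subgroup G} (h : InT T P A V R Y)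
    (hN : NoOverM (zl T P) P) (amb : AmbD T P (zl T P) (cv T P)) : InO T P (zl T P) (cv T P) A V R Y where
  amb := amb
  AT := h.AT
  off := h.off
  ex := relIndex_le_iff.1 (hN A (h.AT.trans h.par.le) h.off.toElemM)
  ab := h.ab
  sq := h.sq
  UY := h.UY
  VY := h.VY
  PY := h.PY
  QY := h.QY
  th := h.th
  RV := h.RV
  VR := h.VR
  RT := h.RT
  RA := h.RA
  AV := h.AV
  vA := h.vA
  aV := h.aV
  card := h.card
  nD := h.nD

/-- **[O]: the block `W = R R^x`.** -/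
theorem out_of [Finite G] (hFF : StmtM.{u}) {T P A V R Y : Subgroup G} (h : InT T P A V R Y)
    (hS : ∀ k m : ℕ, 2 ≤ m → SymKM T P (zl T P) (cv T P) k m → False) :
    ∃ (F : Type) (_ : Field F) (_ : Finite F) (_ : CharP F 2) (W K : Subgroup G) (x : G) (f : G → Fin 2 → F),
      OutO P (zl T P) A R Y W K x F f ∧ K ⊔ T = P := by
  obtain ⟨hN, hC⟩ := hFF G T P h.syl h.par h.char2 ⟨A, h.AT.trans h.par.le, h.off⟩
  rcases hC with ⟨F, i1, i2, i3, k, -, ⟨M⟩⟩ | ⟨k, m, -, hm, ⟨M⟩⟩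
  · have hO := h.inO hN (ambD_of h.syl h.par h.char2 M)
    obtain ⟨rfl, i, o⟩ := InO.one M hO
    obtain rfl : i = 0 := Subsingleton.elim _ _
    obtain ⟨W, K, x, hout⟩ := InO.out hO o h.syl
    refine ⟨F, i1, i2, i3, W, K, x, _, hout, hout.sup_eq h.syl h.par h.AT ?_ h.off.ne⟩
    exact MinSimple.VModule.o2_le_centralizer_zl h.par.le h.syl.2.1 (ChoiceSit.syl_not_dvd h.syl) h.char2
  · exact (hS k m hm M).elim

end Cfsg.Agent.Omega.NOThreeL.RWide.ParA
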