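import Cfsg.Agent.Omega.NOThreeL.RWide.ParA.OneSym

/-!
# `par` over `T`, active case (helper506 #27090), piece [O]: the plug

* `ambD_of_sym` : the ambient facts in the even-subset case;
* `InT.out` : **[O] from the FF theorem.**
-/

set_option autoImplicit false
set_option linter.unusedSectionVars false

namespace Cfsg.Agent.Omega.NOThreeL.RWide.ParA

open Subgroup Cfsg Cfsg.Agent.ZN Cfsg.Agent.ZN.ChoiceBase Cfsg.Agent.Omega.MinPar
open Cfsg.Agent.MinSimple.MinParabolic
open Cfsg.Agent.ZN.ChoiceSit (Syl)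
open Cfsg.Agent.Omega.FrameFF (cv)
open Cfsg.Agent.Omega.FFThm (ElemM OffM NoOverM NatKM SymKM SymK ConclM StmtM ActsSL ActsSym relIndex_le_iff)
open Cfsg.Agent.Omega.NO3S.SOne.NatD
open scoped commutatorElement Pointwise

universe u

variable {G : Type u} [Group G]

/-- **the ambient facts over `T`**, even-subset modules -/
theorem ambD_of_sym [Finite G] {T P : Subgroup G} {k m : ℕ} (hT : Syl T P) (hP : IsMinPar T P)
    (hc : P ⊓ centralizer (o2 P : Set G) ≤ o2 P) (M : SymKM T P (zl T P) (cv T P) k m) (hm : 1 ≤ m) :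
    AmbD T P (zl T P) (cv T P) := by
  classical
  have hSyl := ChoiceSit.syl_not_dvd hT
  have h2T : IsPGroup 2 T := hT.2.1
  have hPV : P ≤ normalizer (zl T P : Set G) := MinSimple.VModule.le_normalizer_zl _ _
  have hPD : P ≤ normalizer (cv T P : Set G) := P_cv _ _
  have hDV : cv T P ≤ zl T P := inf_le_left
  have hsq : ∀ x ∈ zl T P, x * x = 1 := fun x hx => by
    rw [← pow_two]; exact MinSimple.VModule.zl_sq hP.le h2T hSyl hc x hx
  refine ⟨hP.le, hPV, hPD, hDV, MinSimple.VModule.zl_comm hP.le h2T hSyl hc, hsq, fun g hg hg1 hg2 => ?_⟩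
  set V := zl T P with hV
  set D := cv T P with hD
  set K := K0 P V D hPV with hK
  have hgK : g ∈ K := ⟨hg, hg1, hg2⟩
  have hKP : K ≤ P := fun x hx => hx.1
  have hKn : P ≤ normalizer (K : Set G) := le_normalizer_K0 hPV hPD
  by_cases hk : k = 0
  · rw [mem_centralizer_iff]
    intro v hv
    refine (hg2 v ((M.ker v hv).1 ?_)).symm
    funext i
    exact absurd i.2 (by omega)
  have hi0 : 0 < k := Nat.pos_of_ne_zero hk
  have i : Fin k := ⟨0, hi0⟩
  rcases hP.sup_eq_or_inf_le (p := 2) h2T hSyl hKP hKn with h1 | h1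
  · exfalso
    have h01 : (1 : Fin (2 ^ m + 1)) ≠ 0 := by
      intro h3
      have h4 := congrArg Fin.val h3
      have h5 : 2 ^ 1 ≤ 2 ^ m := Nat.pow_le_pow_right (by norm_num) hm
      rw [Fin.val_one', Fin.val_zero, Nat.mod_eq_of_lt (by omega)] at h4
      exact one_ne_zero h4
    obtain ⟨p, hp, hac, -⟩ := M.lift (Pi.mulSingle i (Equiv.swap 0 1))
    have hp' : p ∈ ((K ⊔ T : Subgroup G) : Set G) := by
      rw [h1]; exact hp
    rw [sup_comm, coe_mul_of_left_le_normalizer_right _ _ (hP.le.trans hKn)] at hp'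
    obtain ⟨s, hs, x, hx, rfl⟩ := hp'
    have hxi := inv_mem hx
    have hsa : ActsSym M.e V s 1 (Pi.mulSingle i (Equiv.swap 0 1)) := by
      intro v hv j y
      have hv' : x⁻¹ * v * x⁻¹⁻¹ ∈ V := (mem_normalizer_iff.1 (hPV hxi.1) v).1 hv
      have h2 := hac _ hv' j y
      have e1 : s * x * (x⁻¹ * v * x⁻¹⁻¹) * (s * x)⁻¹ = s * v * s⁻¹ := by group
      dsimp only at h2
      rw [e1] at h2
      have h3 : x⁻¹ * v * x⁻¹⁻¹ * v⁻¹ ∈ D := hxi.2.1 v hv
      have h4 : M.e (x⁻¹ * v * x⁻¹⁻¹) = M.e v := by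
        have h5 := (M.ker _ (hDV h3)).2 h3
        have h6 := M.mul _ (hDV h3) v hv
        rw [inv_mul_cancel_right, h5, zero_add] at h6
        exact h6
      rw [h2, h4]
    have h3 := M.fix0 s hs _ _ hsa i
    rw [Pi.mulSingle_eq_same, Equiv.swap_apply_left] at h3
    exact h01 h3
  · have hsqK : ∀ x ∈ K, x * x ∈ centralizer (V : Set G) := by
      rintro x ⟨hx, hx1, hx2⟩
      rw [mem_centralizer_iff]
      intro v hv
      set d := x * v * x⁻¹ * v⁻¹ with hd
      have hdD : d ∈ D := hx1 v hv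
      have h2 : x * v * x⁻¹ = d * v := by rw [hd]; group
      have h3 : x * d * x⁻¹ = d := by rw [hx2 d hdD, mul_inv_cancel_right]
      have h4 : x * x * v * (x * x)⁻¹ = v := by
        calc x * x * v * (x * x)⁻¹ = x * (x * v * x⁻¹) * x⁻¹ := by group
          _ = x * (d * v) * x⁻¹ := by rw [h2]
          _ = x * d * x⁻¹ * (x * v * x⁻¹) := by group
          _ = v := by rw [h3, h2, ← mul_assoc, hsq d (hDV hdD), one_mul]
      exact (mul_inv_eq_iff_eq_mul.1 h4).symm
    have hcP : ∀ p ∈ P, ∀ x, x ∈ centralizer (V : Set G) → p * x * p⁻¹ ∈ centralizer (V : Set G) := by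
      intro p hp x hx
      have e : cj p V = V := cj_eq_of_mem_normalizer (hPV hp)
      rw [← e, ← cj_centralizer]
      exact conj_mem_iff.2 hx
    have h2core : ∀ x ∈ K, IsPGroup 2 (zpowers x) → x ∈ centralizer (V : Set G) := by
      intro x hx hx2
      obtain ⟨p, hp, hpx⟩ := exists_conj_mem hT (hKP hx) hx2
      have h3 : p * x * p⁻¹ ∈ centralizer (V : Set G) :=
        MinSimple.VModule.o2_le_centralizer_zl hP.le h2T hSyl hc (h1 ⟨hpx, (mem_normalizer_iff.1 (hKn hp) x).1 hx⟩)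
      have h4 := hcP p⁻¹ (inv_mem hp) _ h3
      have e : p⁻¹ * (p * x * p⁻¹) * p⁻¹⁻¹ = x := by group
      rwa [e] at h4
    obtain ⟨n, hn, a, ha⟩ := NOThreeL.Low.exists_odd_pow g
    have h5 := h2core (g ^ n) (pow_mem hgK n) (NOThreeL.Low.isPGroup_zpowers ha)
    obtain ⟨t, rfl⟩ := hn
    have h6 : (g * g) ^ t ∈ centralizer (V : Set G) := pow_mem (hsqK g hgK) t
    have e : g = ((g * g) ^ t)⁻¹ * g ^ (2 * t + 1) := by
      rw [← pow_two, ← pow_mul, pow_succ]; group
    rw [e]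
    exact mul_mem (inv_mem h6) h5

/-- **[O] from the FF theorem.** -/
theorem InT.out [Finite G] (hFF : StmtM.{u}) {T P A V R Y : Subgroup G} (h : InT T P A V R Y) :
    ∃ (F : Type) (_ : Field F) (_ : Finite F) (_ : CharP F 2) (W K : Subgroup G) (x : G) (f : G → Fin 2 → F),
      OutO P (zl T P) A R Y W K x F f ∧ K ⊔ T = P := by
  refine out_of hFF h fun k m hm M => ?_
  have hN := (hFF G T P h.syl h.par h.char2 ⟨A, h.AT.trans h.par.le, h.off⟩).1
  exact InO.no_sym (h.inO hN (ambD_of_sym h.syl h.par h.char2 M (by omega))) M hm h.syl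

end Cfsg.Agent.Omega.NOThreeL.RWide.ParA
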