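import Cfsg.Agent.Omega.NOThreeL.RWide.ParA.OneD
import Cfsg.Agent.Omega.F4.Split

/-!
# `par` over `T`, active case (helper506 #27090), piece [O]: no even-subset modules

`InO.no_sym` : `U / D` is not a sum of even-subset modules of `S_{2^m+1}`, `m ≥ 2`: `R` would have its coordinates in one
pair of points, and be `T`-invariant.
-/

set_option autoImplicit false
set_option linter.unusedSectionVars false

namespace Cfsg.Agent.Omega.NOThreeL.RWide.ParA

open Subgroup Cfsg Cfsg.Agent.ZN Cfsg.Agent.ZN.ChoiceBase Cfsg.Agent.Omega.MinPar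
open Cfsg.Agent.MinSimple.MinParabolic
open Cfsg.Agent.ZN.ChoiceSit (Syl)
open Cfsg.Agent.Omega.FrameFF (cv)
open Cfsg.Agent.Omega.FFThm (ElemM OffM NoOverM NatKM SymKM SymK ConclM StmtM ActsSL ActsSym relIndex_le_iff)
open Cfsg.Agent.Omega.NO3S.SOne.NatD
open scoped commutatorElement Pointwise

universe u

variable {G : Type u} [Group G]

/-- **no even-subset modules** -/
theorem InO.no_sym [Finite G] {T P U D A V R Y : Subgroup G} {k m : ℕ} (h : InO T P U D A V R Y)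
    (M : SymKM T P U D k m) (hm : 2 ≤ m) (hT : Syl T P) : False := by
  classical
  have hA := h.amb
  have hchar : ∀ x : ZMod 2, x + x = 0 := fun x => CharTwo.add_self_eq_zero x
  have hUn : ∀ g ∈ P, ∀ w ∈ U, g * w * g⁻¹ ∈ U := fun g hg w hw => hA.cm hg hw
  have he1 : M.e 1 = 0 := by
    have h1 := M.mul 1 (one_mem _) 1 (one_mem _)
    rw [mul_one] at h1
    exact left_eq_add.1 h1
  have heinv : ∀ w ∈ U, M.e w⁻¹ = M.e w := by
    intro w hw
    have h1 := M.mul w hw w⁻¹ (inv_mem hw)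
    rw [mul_inv_cancel, he1] at h1
    have h2 : M.e w + M.e w = 0 := by
      funext i j
      exact hchar _
    have h3 : M.e w + M.e w⁻¹ = M.e w + M.e w := h1.symm.trans h2.symm
    exact add_left_cancel h3
  have hecom : ∀ g ∈ P, ∀ w ∈ U, M.e (g * w * g⁻¹ * w⁻¹) = M.e (g * w * g⁻¹) + M.e w := by
    intro g hg w hw
    rw [M.mul _ (hUn g hg w hw) _ (inv_mem hw), heinv w hw]
  -- `v = u c`
  obtain ⟨v, hv, hvR⟩ := h.exists_v
  obtain ⟨u, hu, c, hc, e⟩ := h.split_U (h.VY hv)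
  have hR : ∀ r ∈ R, ∃ a ∈ A, a * u * a⁻¹ * u⁻¹ = r := by
    intro r hr
    obtain ⟨a, ha, har⟩ := h.vA v hv hvR r hr
    refine ⟨a, ha, ?_⟩
    rw [← har, e, h.cm_eq ha (h.UY hu) hc]
  have RU := h.RU
  obtain ⟨-, hoff⟩ := M.offM A h.AT h.off
  -- `r₀ ∈ R` with nonzero coordinates
  obtain ⟨r0, hr0, hr0D⟩ := SetLike.not_le_iff_exists.1 h.nD
  obtain ⟨i, y, hy⟩ : ∃ i y, M.e r0 i y ≠ 0 := by
    by_contra hcon
    push Not at hcon
    exact hr0D ((M.ker r0 (RU hr0)).1 (funext fun i => funext fun x => hcon i x))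
  obtain ⟨a, ha, rfl⟩ := hR r0 hr0
  have haP := hA.SP (h.AT ha)
  obtain ⟨τ, hτ, hτ2⟩ := hoff a ha
  set x := (τ i).symm y with hx
  have hxy : τ i x = y := by rw [hx]; simp
  have hne : M.e u i x ≠ M.e u i y := by
    intro e
    apply hy
    rw [hecom a haP u hu]
    have h1 := hτ u hu i x
    rw [Equiv.Perm.one_apply, hxy] at h1
    show M.e (a * u * a⁻¹) i y + M.e u i y = 0
    rw [h1, e]
    exact hchar _
  have hmv : τ i x ≠ x := by
    rw [hxy]
    intro e
    exact hne (by rw [e])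
  have hxy' : x ≠ y := fun e => hmv (hxy.trans e.symm)
  obtain ⟨-, b, hb, hbs⟩ := hτ2 i x hmv
  rw [hxy] at hbs
  have hbP := hA.SP (h.AT hb)
  -- `[U, b]` has its coordinates at `x`, `y`
  have hbj : ∀ w ∈ U, ∀ j, j ≠ i → ∀ z, M.e (b * w * b⁻¹ * w⁻¹) j z = 0 := by
    intro w hw j hj z
    have h1 := hbs w hw j z
    rw [Equiv.Perm.one_apply, Function.update_of_ne hj] at h1
    rw [hecom b hbP w hw]
    show M.e (b * w * b⁻¹) j z + M.e w j z = 0
    have h2 : (1 : Fin k → Equiv.Perm (Fin (2 ^ m + 1))) j z = z := rfl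
    rw [h2] at h1
    rw [h1]
    exact hchar _
  have hbi : ∀ w ∈ U, ∀ z, z ≠ x → z ≠ y → M.e (b * w * b⁻¹ * w⁻¹) i z = 0 := by
    intro w hw z h1 h2
    have h3 := hbs w hw i z
    rw [Equiv.Perm.one_apply, Function.update_self, Equiv.swap_apply_of_ne_of_ne h1 h2] at h3
    rw [hecom b hbP w hw]
    show M.e (b * w * b⁻¹) i z + M.e w i z = 0
    rw [h3]
    exact hchar _
  have hbx : ∀ z, z = x ∨ z = y → M.e (b * u * b⁻¹ * u⁻¹) i z ≠ 0 := by
    intro z hz h0
    rw [hecom b hbP u hu] at h0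
    change M.e (b * u * b⁻¹) i z + M.e u i z = 0 at h0
    rcases hz with rfl | rfl
    · have h1 := hbs u hu i y
      rw [Equiv.Perm.one_apply, Function.update_self, Equiv.swap_apply_right] at h1
      rw [h1] at h0
      exact hne (add_eq_zero_iff_eq_neg.1 (by rw [add_comm]; exact h0) |>.trans (by
        rw [neg_eq_iff_add_eq_zero]; exact hchar _))
    · have h1 := hbs u hu i x
      rw [Equiv.Perm.one_apply, Function.update_self, Equiv.swap_apply_left] at h1
      rw [h1] at h0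
      exact hne (add_eq_zero_iff_eq_neg.1 h0 |>.trans (by
        rw [neg_eq_iff_add_eq_zero]; exact hchar _))
  -- `r₁ = [b, u] ∈ R`
  have hr1 : b * u * b⁻¹ * u⁻¹ ∈ R := by
    have h1 := h.AV b hb v hv
    rwa [e, h.cm_eq hb (h.UY hu) hc] at h1
  have hbV : b ∉ centralizer (V : Set G) := by
    intro hcon
    have h1 : b * v * b⁻¹ * v⁻¹ = 1 := by
      rw [← mem_centralizer_iff.1 hcon v hv]; group
    rw [e, h.cm_eq hb (h.UY hu) hc] at h1
    apply hbx x (Or.inl rfl)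
    rw [h1, he1]; rfl
  -- the coordinates of `R`
  have hRc : ∀ r ∈ R, ∃ w ∈ U, b * w * b⁻¹ * w⁻¹ = r := by
    intro r hr
    obtain ⟨v', hv', hr'⟩ := h.aV b hb hbV r hr
    obtain ⟨u', hu', c', hc', e'⟩ := h.split_U (h.VY hv')
    refine ⟨u', hu', ?_⟩
    rw [← hr', e', h.cm_eq hb (h.UY hu') hc']
  have hRj : ∀ r ∈ R, ∀ j, j ≠ i → ∀ z, M.e r j z = 0 := by
    intro r hr j hj z
    obtain ⟨w, hw, rfl⟩ := hRc r hr
    exact hbj w hw j hj z
  have hRi : ∀ r ∈ R, ∀ z, z ≠ x → z ≠ y → M.e r i z = 0 := by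
    intro r hr z h1 h2
    obtain ⟨w, hw, rfl⟩ := hRc r hr
    exact hbi w hw z h1 h2
  -- one block
  have hone : ∀ j, j = i := by
    intro j
    by_contra hj
    obtain ⟨t, ht, σ, τ', h1, h2⟩ := M.trans i j
    have h3 := h1 _ (RU hr1) i x
    rw [h2, hRj _ ((mem_normalizer_iff.1 (h.RT ht) _).1 hr1) j hj] at h3
    exact hbx x (Or.inl rfl) h3.symm
  have hk : k = 1 := by
    have h1 : Subsingleton (Fin k) := ⟨fun a b => (hone a).trans (hone b).symm⟩
    have h2 : k ≤ 1 := by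
      by_contra hcon
      push Not at hcon
      have := h1.elim (⟨0, by omega⟩ : Fin k) ⟨1, by omega⟩
      simp [Fin.ext_iff] at this
    have h3 : 0 < k := i.pos
    omega
  subst hk
  obtain rfl : i = 0 := Subsingleton.elim _ _
  -- a point `x' ≠ 0` of the pair, and a further point
  obtain ⟨x', hx', hx'0⟩ : ∃ x', (x' = x ∨ x' = y) ∧ x' ≠ 0 := by
    by_cases h0 : x = 0
    · exact ⟨y, Or.inr rfl, fun h1 => hxy' (h0.trans h1.symm)⟩
    · exact ⟨x, Or.inl rfl, h0⟩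
  obtain ⟨w, hw⟩ : ∃ w : Fin (2 ^ m + 1), w ∉ ({0, x, y} : Finset (Fin (2 ^ m + 1))) := by
    by_contra hcon
    push Not at hcon
    have h2 : Finset.univ ⊆ ({0, x, y} : Finset (Fin (2 ^ m + 1))) := fun y _ => hcon y
    have h3 := Finset.card_le_card h2
    rw [Finset.card_univ, Fintype.card_fin] at h3
    have h4 : ({0, x, y} : Finset (Fin (2 ^ m + 1))).card ≤ 3 := Finset.card_le_three
    have h5 : 2 ^ 2 ≤ 2 ^ m := Nat.pow_le_pow_right (by norm_num) hm
    omega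
  simp only [Finset.mem_insert, Finset.mem_singleton, not_or] at hw
  have hm1 : 1 ≤ m := by omega
  obtain ⟨t, ht, htij⟩ := F4.Split.trans_of_surj (F4.Split.hom M.toSymK hA.PV hm1)
    (F4.Split.hom_surjective M.toSymK hA.PV hm1) (S' := T.subgroupOf P) (ChoiceSit.syl_not_dvd hT)
    (fun s hs => F4.Split.hom_T M.toSymK hA.PV hA.SP hm1 (mem_subgroupOf.1 hs)) hx'0 hw.1
  have h1 := F4.Split.ac_hom M.toSymK hA.PV hm1 t _ (RU hr1) x'
  rw [htij] at h1
  have h2 := hRi _ ((mem_normalizer_iff.1 (h.RT (mem_subgroupOf.1 ht)) _).1 hr1) w hw.2.1 hw.2.2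
  exact hbx x' hx' (h1.symm.trans h2)

end Cfsg.Agent.Omega.NOThreeL.RWide.ParA
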